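import Groth.Prelude.Def_CAlg
import Groth.Agent.CommAlgDim.Depth

/-! # Depth one and two along an ideal, elementwise -/

set_option autoImplicit false
universe u

open Pointwise

namespace DepthTwoLib

variable {B : Type u} [CommRing B] (J : Ideal B)

/-- No nonzero element is killed by `J`. -/
def T1 (M : Type u) [AddCommGroup M] [Module B M] : Prop :=
  ∀ m : M, (∀ j ∈ J, j • m = 0) → m = 0

/-- `T1` and every map from `J` is a multiplication. -/
def D2 (M : Type u) [AddCommGroup M] [Module B M] : Prop :=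
  T1 J M ∧ ∀ φ : J →ₗ[B] M, ∃ m : M, ∀ j : J, φ j = (j : B) • m

variable {J} {M M' M'' : Type u} [AddCommGroup M] [Module B M] [AddCommGroup M'] [Module B M']
  [AddCommGroup M''] [Module B M'']

theorem T1.of_injective (h : T1 J M) (f : M' →ₗ[B] M) (hf : Function.Injective f) : T1 J M' :=
  fun m hm => hf <| by rw [map_zero]; exact h _ fun j hj => by rw [← map_smul, hm j hj, map_zero]

theorem T1.congr (h : T1 J M) (e : M' ≃ₗ[B] M) : T1 J M' := h.of_injective e.toLinearMap e.injective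

theorem D2.congr (h : D2 J M) (e : M' ≃ₗ[B] M) : D2 J M' := by
  refine ⟨h.1.congr e, fun φ => ?_⟩
  obtain ⟨m, hm⟩ := h.2 (e.toLinearMap ∘ₗ φ)
  exact ⟨e.symm m, fun j => e.injective (by simpa using hm j)⟩

theorem T1.of_subsingleton [Subsingleton M] : T1 J M := fun _ _ => Subsingleton.elim _ _

theorem D2.of_subsingleton [Subsingleton M] : D2 J M :=
  ⟨T1.of_subsingleton, fun _ => ⟨0, fun _ => Subsingleton.elim _ _⟩⟩

theorem T1.pow (h : T1 J M) : ∀ (N : ℕ) (m : M), (∀ j ∈ J ^ N, j • m = 0) → m = 0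
  | 0, m, hm => by simpa using hm 1 (by simp)
  | N + 1, m, hm => h.pow N m fun a ha => h _ fun j hj => by
      rw [smul_smul]
      exact hm _ (by rw [pow_succ']; exact Ideal.mul_mem_mul hj ha)

section Exact

variable (f : M' →ₗ[B] M) (g : M →ₗ[B] M'') (hf : Function.Injective f) (hfg : Function.Exact f g)
include hf hfg

theorem T1.extension (h' : T1 J M') (h'' : T1 J M'') : T1 J M := fun m hm => by
  obtain ⟨a, rfl⟩ := (hfg m).1 (h'' _ fun j hj => by rw [← map_smul, hm j hj, map_zero])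
  rw [h' a fun j hj => hf (by rw [map_smul, hm j hj, map_zero]), map_zero]

theorem D2.left (h : D2 J M) (h'' : T1 J M'') : D2 J M' := by
  refine ⟨h.1.of_injective f hf, fun φ => ?_⟩
  obtain ⟨m, hm⟩ := h.2 (f ∘ₗ φ)
  obtain ⟨a, rfl⟩ := (hfg m).1 (h'' _ fun j hj => by
    rw [← map_smul, ← hm ⟨j, hj⟩]; exact (hfg _).2 ⟨_, rfl⟩)
  exact ⟨a, fun j => hf (by rw [map_smul]; exact hm j)⟩

theorem T1.right (hg : Function.Surjective g) (h' : D2 J M') (h : T1 J M) : T1 J M'' := by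
  intro c hc
  obtain ⟨b, rfl⟩ := hg c
  have hmem : ∀ j : J, (j : B) • b ∈ LinearMap.range f :=
    fun j => (hfg _).1 (by rw [map_smul, hc j j.2])
  let φ : J →ₗ[B] M' := (LinearEquiv.ofInjective f hf).symm.toLinearMap ∘ₗ
    ((LinearMap.toSpanSingleton B M b).domRestrict J).codRestrict (LinearMap.range f) hmem
  have hφ : ∀ j : J, f (φ j) = (j : B) • b := fun j =>
    congrArg Subtype.val ((LinearEquiv.ofInjective f hf).apply_symm_apply ⟨_, hmem j⟩)
  obtain ⟨a, ha⟩ := h'.2 φ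
  have : b - f a = 0 := h _ fun j hj => by
    rw [smul_sub, ← map_smul, ← ha ⟨j, hj⟩, hφ ⟨j, hj⟩, sub_self]
  rw [sub_eq_zero] at this
  exact (hfg b).2 ⟨a, this.symm⟩

theorem D2.extension (hg : Function.Surjective g) (h' : D2 J M') (h'' : D2 J M'') : D2 J M := by
  refine ⟨T1.extension f g hf hfg h'.1 h''.1, fun φ => ?_⟩
  obtain ⟨c, hc⟩ := h''.2 (g ∘ₗ φ)
  obtain ⟨b, rfl⟩ := hg c
  have hmem : ∀ j : J, φ j - (j : B) • b ∈ LinearMap.range f := fun j => (hfg _).1 (by
    rw [map_sub, map_smul, sub_eq_zero]; exact hc j)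
  let ψ : J →ₗ[B] M' := (LinearEquiv.ofInjective f hf).symm.toLinearMap ∘ₗ
    (φ - (LinearMap.toSpanSingleton B M b).domRestrict J).codRestrict (LinearMap.range f) hmem
  have hψ : ∀ j : J, f (ψ j) = φ j - (j : B) • b := fun j =>
    congrArg Subtype.val ((LinearEquiv.ofInjective f hf).apply_symm_apply ⟨_, hmem j⟩)
  obtain ⟨a, ha⟩ := h'.2 ψ
  exact ⟨b + f a, fun j => by rw [smul_add, ← map_smul, ← ha j, hψ j]; abel⟩

end Exact

theorem T1.pi {ι : Type u} (h : T1 J M) : T1 J (ι → M) := fun m hm =>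
  funext fun i => h _ fun j hj => congrFun (hm j hj) i

theorem D2.pi {ι : Type u} (h : D2 J M) : D2 J (ι → M) := by
  refine ⟨h.1.pi, fun φ => ?_⟩
  choose m hm using fun i => h.2 (LinearMap.proj i ∘ₗ φ)
  exact ⟨m, fun j => funext fun i => hm i j⟩

/-- Elements killed off `V(J)` are killed by a power of `J`. -/
theorem exists_pow_smul_eq_zero [IsNoetherianRing B] (m : M)
    (h : ∀ q : Ideal B, q.IsPrime → ¬ J ≤ q → ∃ u ∉ q, u • m = 0) :
    ∃ N : ℕ, ∀ j ∈ J ^ N, j • m = 0 := by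
  let a : Ideal B := LinearMap.ker (LinearMap.toSpanSingleton B M m)
  have hrad : J ≤ a.radical := by
    rw [Ideal.radical_eq_sInf]
    refine le_sInf fun q ⟨hle, hq⟩ => ?_
    by_contra hJ
    obtain ⟨u, hu, hum⟩ := h q hq hJ
    exact hu (hle hum)
  obtain ⟨N, hN⟩ := Ideal.exists_pow_le_of_le_radical_of_fg hrad (IsNoetherian.noetherian J)
  exact ⟨N, fun j hj => hN hj⟩

theorem T1.eq_zero [IsNoetherianRing B] (h1 : T1 J M) (m : M)
    (h : ∀ q : Ideal B, q.IsPrime → ¬ J ≤ q → ∃ u ∉ q, u • m = 0) : m = 0 := by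
  obtain ⟨N, hN⟩ := exists_pow_smul_eq_zero m h
  exact h1.pow N m hN

variable [IsNoetherianRing B] [Module.Finite B M]

theorem one_le_iff : 1 ≤ LocCoh.idealDepth J M ↔ T1 J M := by
  rw [show (1 : ℕ∞) = ((1 : ℕ) : ℕ∞) from rfl, CommAlgDim.le_idealDepth_iff,
    CommAlgDim.hasSeqIn_one_iff]
  refine ⟨fun h m hm => ?_, fun h p hp hle => ?_⟩
  · obtain ⟨x, hx, hreg⟩ := CommAlgDim.exists_isSMulRegular_mem h
    exact hreg (show x • m = x • (0 : M) by rw [hm x hx, smul_zero])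
  · obtain ⟨hpp, f, hf⟩ := (isAssociatedPrime_iff_exists_injective_linearMap _ _).1 hp
    have := Ideal.Quotient.nontrivial_iff.2 hpp.ne_top
    refine one_ne_zero (hf ((h (f 1) fun j hj => ?_).trans (map_zero f).symm))
    rw [← map_smul, Algebra.smul_def, Ideal.Quotient.algebraMap_eq,
      Ideal.Quotient.eq_zero_iff_mem.2 (hle hj), zero_mul, map_zero]

theorem two_le_iff : 2 ≤ LocCoh.idealDepth J M ↔ D2 J M := by
  rw [show (2 : ℕ∞) = ((2 : ℕ) : ℕ∞) from rfl, CommAlgDim.le_idealDepth_iff]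
  constructor
  · intro h
    have h1 : T1 J M := one_le_iff.1 ((CommAlgDim.le_idealDepth_iff J 1).2 (h.mono one_le_two))
    refine ⟨h1, fun φ => ?_⟩
    obtain ⟨x, hxJ, hx⟩ :=
      CommAlgDim.exists_isSMulRegular_mem ((CommAlgDim.hasSeqIn_one_iff J).1 (h.mono one_le_two))
    have hq : T1 J (QuotSMulTop x M) :=
      one_le_iff.1 ((CommAlgDim.le_idealDepth_iff J 1).2 (h.quotSMulTop hxJ hx))
    have hx' : ∀ j : J, x • φ j = (j : B) • φ ⟨x, hxJ⟩ := fun j => by
      rw [← map_smul, ← map_smul]; exact congrArg φ (Subtype.ext (mul_comm x (j : B)))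
    have hz : (Submodule.Quotient.mk (φ ⟨x, hxJ⟩) : QuotSMulTop x M) = 0 := hq _ fun j hj => by
      rw [← Submodule.Quotient.mk_smul, Submodule.Quotient.mk_eq_zero, ← hx' ⟨j, hj⟩]
      exact Submodule.smul_mem_pointwise_smul _ _ _ trivial
    obtain ⟨m, -, hm⟩ := (Submodule.mem_smul_pointwise_iff_exists _ _ _).1
      ((Submodule.Quotient.mk_eq_zero _).1 hz)
    exact ⟨m, fun j => hx (show x • φ j = x • ((j : B) • m) by rw [hx' j, ← hm, smul_comm])⟩
  · intro h
    obtain ⟨x, hxJ, hx⟩ := CommAlgDim.exists_isSMulRegular_mem (M := M)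
      ((CommAlgDim.hasSeqIn_one_iff J).1 ((CommAlgDim.le_idealDepth_iff J 1).1 (one_le_iff.2 h.1)))
    refine CommAlgDim.hasSeqIn_succ_of_cons hxJ hx ((CommAlgDim.le_idealDepth_iff J 1).1 (one_le_iff.2 ?_))
    intro c hc
    obtain ⟨m, rfl⟩ := Submodule.Quotient.mk_surjective _ c
    have hmem : ∀ j : J, (j : B) • m ∈ LinearMap.range (DistribSMul.toLinearMap B M x) := fun j => by
      have := hc j j.2
      rw [← Submodule.Quotient.mk_smul, Submodule.Quotient.mk_eq_zero,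
        Submodule.mem_smul_pointwise_iff_exists] at this
      obtain ⟨n, -, hn⟩ := this
      exact ⟨n, hn⟩
    let φ : J →ₗ[B] M := (LinearEquiv.ofInjective (DistribSMul.toLinearMap B M x) hx).symm.toLinearMap ∘ₗ
      ((LinearMap.toSpanSingleton B M m).domRestrict J).codRestrict _ hmem
    have hφ : ∀ j : J, x • φ j = (j : B) • m := fun j =>
      congrArg Subtype.val ((LinearEquiv.ofInjective (DistribSMul.toLinearMap B M x) hx).apply_symm_apply ⟨_, hmem j⟩)
    obtain ⟨m₀, hm₀⟩ := h.2 φ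
    rw [Submodule.Quotient.mk_eq_zero, Submodule.mem_smul_pointwise_iff_exists]
    refine ⟨m₀, trivial, hx ?_⟩
    show x • (x • m₀) = x • m
    rw [← hm₀ ⟨x, hxJ⟩, hφ]

end DepthTwoLib
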