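import Groth.Agent.DepthTwoLib.Basic
import Mathlib.Algebra.Module.FinitePresentation
import Mathlib.Algebra.Module.LocalizedModule.Exact
import Mathlib.LinearAlgebra.Dual.Lemmas
import Mathlib.RingTheory.LocalProperties.Projective
import Mathlib.RingTheory.KrullDimension.Module

/-! # Reflexive modules, depth two and Serre conditions -/

set_option autoImplicit false
universe u

namespace DepthTwoLib

variable {A : Type u} [CommRing A]

/-- A finite reflexive module is the kernel of a map of finite free modules. -/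
theorem exists_presentation [IsNoetherianRing A] (G : Type u) [AddCommGroup G] [Module A G] [Module.Finite A G]
    [Module.IsReflexive A G] :
    ∃ (n m : ℕ) (f : G →ₗ[A] Module.Dual A (Fin n → A))
      (h : Module.Dual A (Fin n → A) →ₗ[A] Module.Dual A (Fin m → A)), Function.Injective f ∧ Function.Exact f h := by
  have : Module.FinitePresentation A G := Module.finitePresentation_of_finite A G
  obtain ⟨n, π, hπ⟩ := Module.Finite.exists_fin' A (Module.Dual A G)
  obtain ⟨m, ρ, hρ⟩ := Module.Finite.exists_fin' A (LinearMap.ker π)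
  refine ⟨n, m, π.dualMap ∘ₗ Module.Dual.eval A G, ((LinearMap.ker π).subtype ∘ₗ ρ).dualMap,
    (LinearMap.dualMap_injective_of_surjective hπ).comp (Module.bijective_dual_eval A G).1, fun φ => ?_⟩
  constructor
  · intro hφ
    have hker : LinearMap.ker π ≤ LinearMap.ker φ := fun x hx => by
      obtain ⟨y, hy⟩ := hρ ⟨x, hx⟩
      have := LinearMap.congr_fun hφ y
      simpa [hy] using this
    let ψ : Module.Dual A (Module.Dual A G) :=
      (LinearMap.ker π).liftQ φ hker ∘ₗ (π.quotKerEquivOfSurjective hπ).symm.toLinearMap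
    obtain ⟨g, hg⟩ := (Module.bijective_dual_eval A G).2 ψ
    refine ⟨g, LinearMap.ext fun x => ?_⟩
    show Module.Dual.eval A G g (π x) = φ x
    rw [hg, show π x = π.quotKerEquivOfSurjective hπ (Submodule.Quotient.mk x) from rfl]
    simp [ψ]
  · rintro ⟨g, rfl⟩
    refine LinearMap.ext fun y => ?_
    show Module.Dual.eval A G g (π (ρ y : Fin n → A)) = 0
    rw [(ρ y).2, map_zero]

theorem T1.of_free {R : Type u} [CommRing R] {I : Ideal R} (h : T1 I R) (M : Type u) [AddCommGroup M]
    [Module R M] [Module.Free R M] [Module.Finite R M] : T1 I M :=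
  h.pi.congr (Module.Free.chooseBasis R M).equivFun

theorem D2.of_free {R : Type u} [CommRing R] {I : Ideal R} (h : D2 I R) (M : Type u) [AddCommGroup M]
    [Module R M] [Module.Free R M] [Module.Finite R M] : D2 I M :=
  h.pi.congr (Module.Free.chooseBasis R M).equivFun

/-- Supports of localized modules. -/
theorem mem_support_localized_iff (p : Ideal A) [p.IsPrime] (M : Type u) [AddCommGroup M] [Module A M]
    (q : PrimeSpectrum (Localization.AtPrime p)) :
    q ∈ Module.support (Localization.AtPrime p) (LocalizedModule p.primeCompl M) ↔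
      PrimeSpectrum.comap (algebraMap A (Localization.AtPrime p)) q ∈ Module.support A M := by
  rw [Module.mem_support_iff', Module.mem_support_iff']
  constructor
  · rintro ⟨m, hm⟩
    obtain ⟨⟨x, s⟩, rfl⟩ := IsLocalizedModule.mk'_surjective p.primeCompl (LocalizedModule.mkLinearMap p.primeCompl M) m
    refine ⟨x, fun r hr h0 => hm (algebraMap A _ r) hr ?_⟩
    rw [Function.uncurry_apply_pair, algebraMap_smul, ← IsLocalizedModule.mk'_smul, h0, IsLocalizedModule.mk'_zero]
  · rintro ⟨x, hx⟩
    refine ⟨LocalizedModule.mkLinearMap p.primeCompl M x, fun r hr h0 => ?_⟩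
    obtain ⟨⟨a, s⟩, has⟩ := IsLocalization.surj p.primeCompl r
    have ha : a ∉ (PrimeSpectrum.comap (algebraMap A (Localization.AtPrime p)) q).asIdeal := fun ha => by
      have h' : r * algebraMap A _ (s : A) ∈ q.asIdeal := has ▸ ha
      rcases q.2.mem_or_mem h' with h' | h'
      · exact hr h'
      · exact q.2.ne_top (Ideal.eq_top_of_isUnit_mem _ h' (IsLocalization.map_units _ s))
    have h1 : LocalizedModule.mkLinearMap p.primeCompl M (a • x) = 0 := by
      rw [map_smul, ← algebraMap_smul (Localization.AtPrime p) a, ← has, mul_comm, mul_smul, h0, smul_zero]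
    obtain ⟨u, hu⟩ := (IsLocalizedModule.eq_zero_iff p.primeCompl _).1 h1
    refine hx ((u : A) * a) ?_ (by rw [mul_smul]; exact hu)
    intro hmem
    rcases (PrimeSpectrum.comap (algebraMap A (Localization.AtPrime p)) q).2.mem_or_mem hmem with h | h
    · exact q.2.ne_top (Ideal.eq_top_of_isUnit_mem _ h (IsLocalization.map_units _ u))
    · exact ha h

theorem supportDim_localized_mono (p : Ideal A) [p.IsPrime] {M N : Type u} [AddCommGroup M] [Module A M]
    [AddCommGroup N] [Module A N] (h : Module.support A M ⊆ Module.support A N) :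
    Module.supportDim (Localization.AtPrime p) (LocalizedModule p.primeCompl M) ≤
      Module.supportDim (Localization.AtPrime p) (LocalizedModule p.primeCompl N) :=
  Order.krullDim_le_of_strictMono
    (fun q => ⟨q.1, (mem_support_localized_iff p N q.1).2 (h ((mem_support_localized_iff p M q.1).1 q.2))⟩)
    fun _ _ hlt => hlt

section Sk

variable [IsNoetherianRing A]

/-- Depth of localizations of a kernel. -/
theorem depth_kernel (p : Ideal A) [p.IsPrime] {G E0 E1 : Type u} [AddCommGroup G] [Module A G] [Module.Finite A G]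
    [AddCommGroup E0] [Module A E0] [Module.Finite A E0] [AddCommGroup E1] [Module A E1] [Module.Finite A E1]
    (f : G →ₗ[A] E0) (u : E0 →ₗ[A] E1) (hf : Function.Injective f) (hfu : Function.Exact f u) :
    (1 ≤ LocCoh.depth (Localization.AtPrime p) (LocalizedModule p.primeCompl E0) →
      1 ≤ LocCoh.depth (Localization.AtPrime p) (LocalizedModule p.primeCompl G)) ∧
    (2 ≤ LocCoh.depth (Localization.AtPrime p) (LocalizedModule p.primeCompl E0) →
      1 ≤ LocCoh.depth (Localization.AtPrime p) (LocalizedModule p.primeCompl E1) →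
      2 ≤ LocCoh.depth (Localization.AtPrime p) (LocalizedModule p.primeCompl G)) := by
  have : IsNoetherianRing (Localization.AtPrime p) := IsLocalization.isNoetherianRing p.primeCompl _ inferInstance
  let f' := LocalizedModule.map p.primeCompl f
  let u' := LocalizedModule.map p.primeCompl u
  have hf' : Function.Injective f' := LocalizedModule.map_injective p.primeCompl f hf
  have hex : Function.Exact f' u' := LocalizedModule.map_exact p.primeCompl f u hfu
  unfold LocCoh.depth
  rw [one_le_iff, one_le_iff, one_le_iff, two_le_iff, two_le_iff]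
  exact ⟨fun h => h.of_injective f' hf', fun h h' => D2.left f' u' hf' hex h h'⟩

theorem min_one_le_iff {a : WithBot ℕ∞} {d : ℕ∞} :
    min ((1 : ℕ) : WithBot ℕ∞) a ≤ (d : WithBot ℕ∞) ↔ (1 ≤ a → 1 ≤ d) := by
  induction a using WithBot.recBotCoe with
  | bot => simp
  | coe a =>
    change min ((1 : ℕ∞) : WithBot ℕ∞) (a : WithBot ℕ∞) ≤ _ ↔ ((1 : ℕ∞) : WithBot ℕ∞) ≤ (a : WithBot ℕ∞) → _
    rw [← WithBot.coe_min, WithBot.coe_le_coe, WithBot.coe_le_coe]
    rcases le_or_gt 1 a with h | h
    · simp [h]
    · simp [Order.lt_one_iff.1 h]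

theorem min_two_le_iff {a : WithBot ℕ∞} {d : ℕ∞} :
    min ((2 : ℕ) : WithBot ℕ∞) a ≤ (d : WithBot ℕ∞) ↔ (1 ≤ a → 1 ≤ d) ∧ (2 ≤ a → 2 ≤ d) := by
  induction a using WithBot.recBotCoe with
  | bot => simp
  | coe a =>
    change min (((2 : ℕ) : ℕ∞) : WithBot ℕ∞) (a : WithBot ℕ∞) ≤ _ ↔
      (((1 : ℕ∞) : WithBot ℕ∞) ≤ (a : WithBot ℕ∞) → _) ∧ (((2 : ℕ∞) : WithBot ℕ∞) ≤ (a : WithBot ℕ∞) → _)
    rw [← WithBot.coe_min, WithBot.coe_le_coe, WithBot.coe_le_coe, WithBot.coe_le_coe]
    refine ⟨fun h => ⟨fun h1 => ?_, fun h2 => ?_⟩, fun ⟨h1, h2⟩ => ?_⟩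
    · exact (le_min (by exact_mod_cast one_le_two) h1).trans h
    · exact le_trans (le_min le_rfl (by exact_mod_cast h2)) h
    · rcases le_or_gt 2 a with h | h
      · exact min_le_of_left_le (by exact_mod_cast h2 h)
      · refine min_le_of_right_le ?_
        rcases le_or_gt 1 a with h' | h'
        · exact le_trans (Order.le_of_lt_add_one (by rwa [one_add_one_eq_two])) (h1 h')
        · simp [Order.lt_one_iff.1 h']

theorem hasSk_one {G : Type u} [AddCommGroup G] [Module A G] :
    LocCoh.HasSk 1 A G ↔ ∀ (p : Ideal A) [p.IsPrime],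
      1 ≤ Module.supportDim (Localization.AtPrime p) (LocalizedModule p.primeCompl G) →
        1 ≤ LocCoh.depth (Localization.AtPrime p) (LocalizedModule p.primeCompl G) :=
  ⟨fun h p _ => min_one_le_iff.1 (h p), fun h p _ => min_one_le_iff.2 (h p)⟩

theorem hasSk_two {G : Type u} [AddCommGroup G] [Module A G] :
    LocCoh.HasSk 2 A G ↔ ∀ (p : Ideal A) [p.IsPrime],
      (1 ≤ Module.supportDim (Localization.AtPrime p) (LocalizedModule p.primeCompl G) →
        1 ≤ LocCoh.depth (Localization.AtPrime p) (LocalizedModule p.primeCompl G)) ∧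
      (2 ≤ Module.supportDim (Localization.AtPrime p) (LocalizedModule p.primeCompl G) →
        2 ≤ LocCoh.depth (Localization.AtPrime p) (LocalizedModule p.primeCompl G)) := by
  exact ⟨fun h p _ => min_two_le_iff.1 (h p), fun h p _ => min_two_le_iff.2 (h p)⟩

variable {G E0 E1 : Type u} [AddCommGroup G] [Module A G] [Module.Finite A G]
    [AddCommGroup E0] [Module A E0] [Module.Finite A E0] [AddCommGroup E1] [Module A E1] [Module.Finite A E1]
    (f : G →ₗ[A] E0) (u : E0 →ₗ[A] E1) (hf : Function.Injective f) (hfu : Function.Exact f u)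
include hf hfu

theorem hasSk_one_kernel (h : LocCoh.HasSk 1 A E0) : LocCoh.HasSk 1 A G :=
  hasSk_one.2 fun p _ hd => (depth_kernel p f u hf hfu).1 (hasSk_one.1 h p
    (hd.trans (supportDim_localized_mono p (Module.support_subset_of_injective f hf))))

theorem hasSk_two_kernel (hs : Module.support A G ⊆ Module.support A E1) (h0 : LocCoh.HasSk 2 A E0)
    (h1 : LocCoh.HasSk 1 A E1) : LocCoh.HasSk 2 A G := by
  refine hasSk_two.2 fun p _ => ?_
  have hm := supportDim_localized_mono p (Module.support_subset_of_injective f hf)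
  refine ⟨fun hd => (depth_kernel p f u hf hfu).1 ((hasSk_two.1 h0 p).1 (hd.trans hm)), fun hd => ?_⟩
  exact (depth_kernel p f u hf hfu).2 ((hasSk_two.1 h0 p).2 (hd.trans hm))
    (hasSk_one.1 h1 p ((le_trans one_le_two hd).trans (supportDim_localized_mono p hs)))

end Sk

section OfReflexive

variable [IsNoetherianRing A] (G : Type u) [AddCommGroup G] [Module A G] [Module.Finite A G]

theorem T1.dual {I : Ideal A} (h : T1 I A) : T1 I (Module.Dual A G) := fun φ hφ =>
  LinearMap.ext fun x => h _ fun j hj => LinearMap.congr_fun (hφ j hj) x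

theorem idealDepth_reflexive [Module.IsReflexive A G] {I : Ideal A} :
    (T1 I A → T1 I G) ∧ (D2 I A → D2 I G) := by
  obtain ⟨n, m, f, h, hf, hex⟩ := exists_presentation (A := A) G
  refine ⟨fun h1 => (h1.dual _).of_injective f hf, fun h2 => D2.left f h hf hex ?_ (h2.1.dual _)⟩
  exact (h2.pi (ι := ULift.{u} (Fin n))).congr
    ((Pi.basisFun A (Fin n)).dualBasis.equivFun.trans (LinearEquiv.funCongrLeft A A Equiv.ulift))

theorem hasSk_reflexive [Module.IsReflexive A G] :
    (LocCoh.HasSk 1 A A → LocCoh.HasSk 1 A G) ∧ (LocCoh.HasSk 2 A A → LocCoh.HasSk 2 A G) := by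
  obtain ⟨n, m, f, h, hf, hex⟩ := exists_presentation (A := A) G
  have key : ∀ (p : Ideal A) [p.IsPrime] (k : ℕ),
      (1 ≤ LocCoh.depth (Localization.AtPrime p) (LocalizedModule p.primeCompl A) →
        1 ≤ LocCoh.depth (Localization.AtPrime p) (LocalizedModule p.primeCompl (Module.Dual A (Fin k → A)))) ∧
      (2 ≤ LocCoh.depth (Localization.AtPrime p) (LocalizedModule p.primeCompl A) →
        2 ≤ LocCoh.depth (Localization.AtPrime p) (LocalizedModule p.primeCompl (Module.Dual A (Fin k → A)))) := by
    intro p _ k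
    have : IsNoetherianRing (Localization.AtPrime p) := IsLocalization.isNoetherianRing p.primeCompl _ inferInstance
    have e : LocalizedModule p.primeCompl A ≃ₗ[Localization.AtPrime p] Localization.AtPrime p :=
      LinearEquiv.extendScalarsOfIsLocalization p.primeCompl (Localization.AtPrime p)
        (IsLocalizedModule.linearEquiv p.primeCompl (LocalizedModule.mkLinearMap p.primeCompl A)
          (Algebra.linearMap A (Localization.AtPrime p)))
    have : Module.Free (Localization.AtPrime p) (LocalizedModule p.primeCompl (Module.Dual A (Fin k → A))) :=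
      Module.free_of_isLocalizedModule p.primeCompl (LocalizedModule.mkLinearMap p.primeCompl _)
    unfold LocCoh.depth
    rw [one_le_iff, one_le_iff, two_le_iff, two_le_iff]
    exact ⟨fun h => T1.of_free (h.congr e.symm) _, fun h => D2.of_free (h.congr e.symm) _⟩
  have hsA : ∀ {M : Type u} [AddCommGroup M] [Module A M], Module.support A M ⊆ Module.support A A := by
    intro M _ _ q _
    exact Module.mem_support_iff'.2 ⟨1, fun r hr h => hr (by rw [show r = r • (1 : A) by simp, h]; exact zero_mem _)⟩
  refine ⟨fun hA => hasSk_one.2 fun p _ hd => (depth_kernel p f h hf hex).1 ((key p n).1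
    (hasSk_one.1 hA p (hd.trans (supportDim_localized_mono p hsA)))), fun hA => hasSk_two.2 fun p _ => ?_⟩
  have hA' := hasSk_two.1 hA p
  refine ⟨fun hd => (depth_kernel p f h hf hex).1 ((key p n).1 (hA'.1 (hd.trans (supportDim_localized_mono p hsA)))),
    fun hd => (depth_kernel p f h hf hex).2 ((key p n).2 (hA'.2 (hd.trans (supportDim_localized_mono p hsA))))
      ((key p m).1 (hA'.1 ((le_trans one_le_two hd).trans (supportDim_localized_mono p hsA))))⟩

end OfReflexive

/-- A module of depth two which is reflexive off `V(I)` is reflexive. -/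
theorem isReflexive_of_d2 [IsNoetherianRing A] {I : Ideal A} (G : Type u) [AddCommGroup G] [Module A G]
    [Module.Finite A G] (hA : T1 I A) (hG : D2 I G)
    (hU : ∀ p : PrimeSpectrum A, ¬ I ≤ p.asIdeal →
      Module.IsReflexive (Localization.AtPrime p.asIdeal) (LocalizedModule p.asIdeal.primeCompl G)) :
    Module.IsReflexive A G := by
  have : Module.FinitePresentation A G := Module.finitePresentation_of_finite A G
  let ev := Module.Dual.eval A G
  have key : ∀ q : Ideal A, ∀ _ : q.IsPrime, ¬ I ≤ q →
      (∀ x, ev x = 0 → ∃ u ∉ q, u • x = 0) ∧ ∀ y, ∃ u ∉ q, ∃ x, ev x = u • y := by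
    intro q hqp hq
    let S := q.primeCompl
    let gG := LocalizedModule.mkLinearMap S G
    let gA := Algebra.linearMap A (Localization.AtPrime q)
    let Φ := IsLocalizedModule.mapExtendScalars S gG gA (Localization.AtPrime q)
    have hΦ : ∀ (φ : G →ₗ[A] A) (z : G), Φ φ (gG z) = gA (φ z) := fun φ z => by
      show IsLocalizedModule.map S gG gA φ (gG z) = _
      rw [IsLocalizedModule.map_apply]
    have := hU ⟨q, hqp⟩ hq
    refine ⟨fun x hx => ?_, fun y => ?_⟩
    · have h0 : gG x = 0 := (Module.bijective_dual_eval (Localization.AtPrime q) (LocalizedModule S G)).1 <| by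
        refine LinearMap.ext fun φ' => ?_
        rw [Module.Dual.eval_apply, map_zero, LinearMap.zero_apply]
        obtain ⟨⟨φ, s⟩, hφ⟩ := IsLocalizedModule.surj S Φ φ'
        have h1 : s • φ' (gG x) = 0 := by
          rw [← LinearMap.smul_apply, hφ, hΦ, show φ x = 0 from LinearMap.congr_fun hx φ, map_zero]
        exact IsLocalizedModule.smul_injective gA s (h1.trans (smul_zero s).symm)
      obtain ⟨u, hu⟩ := (IsLocalizedModule.eq_zero_iff S gG).1 h0
      exact ⟨u, u.2, hu⟩
    · let y' := IsLocalizedModule.mapExtendScalars S Φ gA (Localization.AtPrime q) y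
      have hy' : ∀ φ : G →ₗ[A] A, y' (Φ φ) = gA (y φ) := fun φ => by
        show IsLocalizedModule.map S Φ gA y (Φ φ) = _
        rw [IsLocalizedModule.map_apply]
      obtain ⟨x', hx'⟩ := (Module.bijective_dual_eval (Localization.AtPrime q) (LocalizedModule S G)).2 y'
      obtain ⟨⟨x, s⟩, hxs⟩ := IsLocalizedModule.surj S gG x'
      have hz : ∀ φ : G →ₗ[A] A, ∃ u : S, (u : A) • ((s : A) • y φ - φ x) = 0 := fun φ => by
        refine (IsLocalizedModule.eq_zero_iff S gA).1 ?_
        rw [map_sub, map_smul, sub_eq_zero, ← hy', ← hx', Module.Dual.eval_apply, ← hΦ]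
        change (s : A) • (Φ φ) x' = _
        rw [← LinearMap.map_smul_of_tower, ← Submonoid.smul_def, hxs]
      classical
      obtain ⟨t, ht⟩ := (inferInstance : Module.Finite A (Module.Dual A G)).fg_top
      choose u hu using hz
      let U : A := ∏ φ ∈ t, (u φ : A)
      refine ⟨U * s, ?_, U • x, ?_⟩
      · refine q.primeCompl.mul_mem ?_ s.2
        exact Submonoid.prod_mem _ fun φ _ => (u φ).2
      · refine LinearMap.ext_on ht fun φ hφ => ?_
        obtain ⟨c, hc⟩ := Finset.dvd_prod_of_mem (fun ψ => (u ψ : A)) hφ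
        simp only [ev, map_smul, LinearMap.smul_apply, Module.Dual.eval_apply]
        have h := hu φ
        rw [smul_sub, sub_eq_zero] at h
        simp only [smul_eq_mul] at h ⊢
        rw [show U = (u φ : A) * c from hc]
        linear_combination -c * h
  refine ⟨fun a b hab => ?_, fun y => ?_⟩
  · refine sub_eq_zero.1 (hG.1.eq_zero _ fun q hq hI => (key q hq hI).1 _ ?_)
    rw [map_sub, hab, sub_self]
  · have hinj : Function.Injective ev := (injective_iff_map_eq_zero _).2 fun x hx =>
      hG.1.eq_zero _ fun q hq hI => (key q hq hI).1 x hx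
    have h1 : T1 I (Module.Dual A (Module.Dual A G) ⧸ LinearMap.range ev) :=
      T1.right ev (LinearMap.range ev).mkQ hinj (LinearMap.exact_map_mkQ_range _) (Submodule.mkQ_surjective _)
        hG (hA.dual _)
    refine (Submodule.Quotient.mk_eq_zero _).1 (h1.eq_zero (Submodule.Quotient.mk y) fun q hq hI => ?_)
    obtain ⟨u, hu, x, hx⟩ := (key q hq hI).2 y
    exact ⟨u, hu, by rw [← Submodule.Quotient.mk_smul, Submodule.Quotient.mk_eq_zero]; exact ⟨x, hx⟩⟩

end DepthTwoLib
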