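import Groth.Agent.DepthTwoLib.FibreDepth
import Groth.Prelude.Def_EGA4b
import Mathlib.RingTheory.Localization.AtPrime.Basic

/-! # Depth of a stalk from the fibre stalk -/

set_option autoImplicit false
universe u

open TensorProduct IsLocalRing

namespace DepthTwoLib

variable {A B : Type u} [CommRing A] [CommRing B] [IsNoetherianRing A] [IsNoetherianRing B] [Algebra A B]
  {E : Type u} [AddCommGroup E] [Module B E] [Module A E] [IsScalarTower A B E] [Module.Finite B E] [Module.Flat A E]

theorem depth_stalk_of_fibre (q : Ideal B) [q.IsPrime] :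
    (1 ≤ LocCoh.idealDepth (q.map (algebraMap B (EGA4.FibLocRing A B q))) (EGA4.FibLocMod A B q E) →
      1 ≤ LocCoh.depth (Localization.AtPrime q) (LocalizedModule q.primeCompl E)) ∧
    (2 ≤ LocCoh.idealDepth (q.map (algebraMap B (EGA4.FibLocRing A B q))) (EGA4.FibLocMod A B q E) →
      2 ≤ LocCoh.depth (Localization.AtPrime q) (LocalizedModule q.primeCompl E)) := by
  let p := q.comap (algebraMap A B)
  let Ap := Localization.AtPrime p
  let Bq := Localization.AtPrime q
  let Eq' := LocalizedModule q.primeCompl E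
  let φ : Ap →+* Bq := Localization.localRingHom p q (algebraMap A B) rfl
  let _ : Algebra Ap Bq := φ.toAlgebra
  let _ : Module Ap Eq' := Module.compHom Eq' φ
  have : IsScalarTower Ap Bq Eq' := ⟨fun a b m => mul_smul (φ a) b m⟩
  have : IsScalarTower A Ap Bq := IsScalarTower.of_algebraMap_eq fun a => by
    show algebraMap A Bq a = φ (algebraMap A Ap a)
    rw [Localization.localRingHom_to_map, IsScalarTower.algebraMap_apply A B Bq]
  have : IsScalarTower A Ap Eq' := ⟨fun a c m => by
    show φ (a • c) • m = a • (φ c • m)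
    rw [Algebra.smul_def, map_mul, ← algebraMap_smul Bq a (φ c • m), mul_smul,
      Localization.localRingHom_to_map, IsScalarTower.algebraMap_apply A B Bq]⟩
  have : IsLocalHom (algebraMap Ap Bq) := Localization.isLocalHom_localRingHom p q (algebraMap A B) rfl
  have : Module.Flat A Eq' := flat_localizedModule E q.primeCompl
  have : Module.Flat Ap Eq' := (Module.flat_iff_of_isLocalization Ap p.primeCompl Eq').2 ‹_›
  have : IsNoetherianRing Bq := IsLocalization.isNoetherianRing q.primeCompl _ inferInstance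
  have : IsNoetherianRing Ap := IsLocalization.isNoetherianRing p.primeCompl _ inferInstance
  let 𝔞 : Ideal Bq := p.map (algebraMap A Bq)
  have h𝔞 : (maximalIdeal Ap).map (algebraMap Ap Bq) = 𝔞 := by
    rw [← Localization.AtPrime.map_eq_maximalIdeal, Ideal.map_map, ← IsScalarTower.algebraMap_eq]
  let J := maximalIdeal Bq
  obtain ⟨e⟩ := tensor_residue_equiv (B := Bq) Eq' (maximalIdeal Ap)
  let e' : Eq' ⊗[Ap] ResidueField Ap ≃ₗ[Bq] EGA4.FibLocMod A B q E :=
    e.trans (Submodule.quotEquivOfEq _ _ (by rw [h𝔞]))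
  have hmap : q.map (algebraMap B (EGA4.FibLocRing A B q)) = J.map (Ideal.Quotient.mk 𝔞) := by
    rw [show (J : Ideal Bq) = q.map (algebraMap B Bq) from Localization.AtPrime.map_eq_maximalIdeal.symm, Ideal.map_map]
    rfl
  have ht : ∀ m : EGA4.FibLocMod A B q E, ∀ r : Bq, Ideal.Quotient.mk 𝔞 r • m = r • m := fun m r => by
    obtain ⟨y, rfl⟩ := Submodule.Quotient.mk_surjective _ m
    rfl
  have : IsScalarTower Bq (EGA4.FibLocRing A B q) (EGA4.FibLocMod A B q E) :=
    IsScalarTower.of_algebraMap_smul fun r m => ht m r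
  have : Module.Finite (EGA4.FibLocRing A B q) (EGA4.FibLocMod A B q E) :=
    Module.Finite.of_restrictScalars_finite Bq _ _
  have : IsNoetherianRing (EGA4.FibLocRing A B q) := Ideal.Quotient.isNoetherianRing _
  have hT : T1 (q.map (algebraMap B (EGA4.FibLocRing A B q))) (EGA4.FibLocMod A B q E) →
      T1 J (EGA4.FibLocMod A B q E) := by
    intro h m hm
    refine h m fun j hj => ?_
    rw [hmap, Ideal.mem_map_iff_of_surjective _ Ideal.Quotient.mk_surjective] at hj
    obtain ⟨r, hr, rfl⟩ := hj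
    rw [ht]; exact hm r hr
  unfold LocCoh.depth
  rw [one_le_iff, one_le_iff, two_le_iff, two_le_iff]
  refine ⟨fun h => t1_of_fibre ((hT h).congr e'), fun h => d2_of_fibre (D2.congr ⟨hT h.1, fun φ => ?_⟩ e')⟩
  have hker : ∀ j : J, Ideal.Quotient.mk 𝔞 j = 0 → φ j = 0 := fun j hj => by
    refine hT h.1 _ fun r hr => ?_
    rw [← map_smul, show r • j = (j : Bq) • (⟨r, hr⟩ : J) from Subtype.ext (mul_comm r (j : Bq)), map_smul]
    rw [← ht (φ ⟨r, hr⟩) (j : Bq), hj]
    exact (zero_smul (EGA4.FibLocRing A B q) (φ ⟨r, hr⟩))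
  have hsurj : ∀ j : (q.map (algebraMap B (EGA4.FibLocRing A B q)) : Ideal _), ∃ r : J,
      Ideal.Quotient.mk 𝔞 r = (j : EGA4.FibLocRing A B q) := fun j => by
    have hj : (j : EGA4.FibLocRing A B q) ∈ J.map (Ideal.Quotient.mk 𝔞) := by rw [← hmap]; exact j.2
    obtain ⟨r, hr, hr'⟩ := (Ideal.mem_map_iff_of_surjective _ Ideal.Quotient.mk_surjective).1 hj
    exact ⟨⟨r, hr⟩, hr'⟩
  let g : ∀ j : (q.map (algebraMap B (EGA4.FibLocRing A B q)) : Ideal _), EGA4.FibLocMod A B q E :=
    fun j => φ (hsurj j).choose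
  have hg : ∀ (j : (q.map (algebraMap B (EGA4.FibLocRing A B q)) : Ideal _)) (r : J), Ideal.Quotient.mk 𝔞 r = (j : EGA4.FibLocRing A B q) → g j = φ r := fun j r hr => by
    refine sub_eq_zero.1 ?_
    simp only [g, ← map_sub]
    refine hker _ ?_
    rw [AddSubgroupClass.coe_sub, map_sub, hr, sub_eq_zero]
    exact (hsurj j).choose_spec
  obtain ⟨m, hm⟩ := h.2
    { toFun := g
      map_add' := fun a b => by
        obtain ⟨ra, hra⟩ := hsurj a
        obtain ⟨rb, hrb⟩ := hsurj b
        rw [hg a ra hra, hg b rb hrb, hg (a + b) (ra + rb) (by simp [hra, hrb]), map_add]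
      map_smul' := fun c a => by
        obtain ⟨c, rfl⟩ := Ideal.Quotient.mk_surjective c
        obtain ⟨ra, hra⟩ := hsurj a
        rw [hg a ra hra, hg _ (c • ra) (by simp [hra, smul_eq_mul]; rfl), map_smul, RingHom.id_apply, ht] }
  refine ⟨m, fun j => ?_⟩
  have hj : Ideal.Quotient.mk 𝔞 (j : Bq) ∈ q.map (algebraMap B (EGA4.FibLocRing A B q)) :=
    by rw [hmap]; exact Ideal.mem_map_of_mem _ j.2
  have h3 := hm ⟨_, hj⟩
  change g _ = _ at h3
  rw [hg _ j rfl, ht] at h3
  exact h3

end DepthTwoLib
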