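import Groth.Agent.DepthTwoLib.FourTerm
import Groth.Agent.DepthTwoLib.Reflexive
import Groth.Prelude.Def_CAlg
import Mathlib.RingTheory.Flat.Localization

/-! # Depth from the closed fibre -/

set_option autoImplicit false
universe u

open TensorProduct IsLocalRing Pointwise

namespace DepthTwoLib

variable {A B : Type u} [CommRing A] [CommRing B] [Algebra A B] [IsLocalRing A] [IsLocalRing B]
  [IsNoetherianRing A] [IsNoetherianRing B] [IsLocalHom (algebraMap A B)] {J : Ideal B}
  {M : Type u} [AddCommGroup M] [Module B M] [Module A M] [IsScalarTower A B M] [Module.Finite B M]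
  [Module.Flat A M]

omit [IsLocalRing A] [IsLocalRing B] [IsNoetherianRing A] [IsNoetherianRing B] [IsLocalHom (algebraMap A B)]
  [Module.Finite B M] in
theorem flatOff_of_flat : FlatOff A B J M := fun q _ => flat_localizedModule M q.asIdeal.primeCompl

theorem t1_of_fibre (h1 : T1 J (M ⊗[A] ResidueField A)) : T1 J M := by
  intro m hm
  rw [← Submodule.mem_bot B, ← Ideal.iInf_pow_smul_eq_bot_of_le_jacobson (M := M)
    ((maximalIdeal A).map (algebraMap A B))
    ((IsLocalRing.map_maximalIdeal_le _).trans (IsLocalRing.maximalIdeal_le_jacobson _)), Submodule.mem_iInf]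
  intro n
  obtain ⟨e⟩ := tensor_residue_equiv (B := B) M (maximalIdeal A ^ n)
  have hk : maximalIdeal A ^ n • (⊤ : Submodule A (A ⧸ maximalIdeal A ^ n)) = ⊥ := by
    rw [eq_bot_iff, Submodule.smul_le]
    intro a ha x _
    obtain ⟨y, rfl⟩ := Ideal.Quotient.mk_surjective x
    rw [Submodule.mem_bot, Algebra.smul_def, Ideal.Quotient.algebraMap_eq,
      Ideal.Quotient.eq_zero_iff_mem.2 ha, zero_mul]
  have h := (t1_tensor flatOff_of_flat h1 n _ hk).congr e.symm
  rw [← Ideal.map_pow]
  exact (Submodule.Quotient.mk_eq_zero _).1 (h (Submodule.Quotient.mk m) fun j hj => by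
    rw [← Submodule.Quotient.mk_smul, hm j hj, Submodule.Quotient.mk_zero])

theorem smul_injective_tensor {x : B} (hx : IsSMulRegular (M ⊗[A] ResidueField A) x) :
    ∀ (n : ℕ) (P : Type u) [AddCommGroup P] [Module A P] [IsNoetherian A P],
      maximalIdeal A ^ n • (⊤ : Submodule A P) = ⊥ → IsSMulRegular (M ⊗[A] P) x :=
  induction_killed (motive := fun P _ _ => IsSMulRegular (M ⊗[A] P) x)
    (fun ι _ => fun a b hab => by
      obtain ⟨e⟩ := tensor_pi_equiv (A := A) (B := B) M ι (ResidueField A)
      refine e.injective (funext fun i => hx ?_)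
      have := congrFun ((e.map_smul x a).symm.trans ((congrArg e hab).trans (e.map_smul x b))) i
      exact this)
    (fun P Q _ _ _ _ e h a b hab => by
      let e' := AlgebraTensorModule.congr (LinearEquiv.refl B M) e
      exact e'.injective (h ((e'.map_smul x a).symm.trans ((congrArg e' hab).trans (e'.map_smul x b)))))
    fun P _ _ N hN hQ => by
      have hexact := lTensor_exact M (LinearMap.exact_subtype_mkQ N) N.mkQ_surjective
      have hinj : Function.Injective (LinearMap.lTensor M N.subtype) :=
        Module.Flat.lTensor_preserves_injective_linearMap _ N.injective_subtype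
      intro a b hab
      have h0 : x • (a - b) = 0 := by rw [smul_sub]; exact sub_eq_zero.2 hab
      obtain ⟨c, hc⟩ := (hexact (a - b)).1 (hQ (show x • _ = x • 0 by
        rw [smul_zero]
        show x • (AlgebraTensorModule.lTensor B M N.mkQ) (a - b) = 0
        rw [← map_smul, h0, map_zero]))
      have hc0 : c = 0 := hN (show x • c = x • 0 by
        rw [smul_zero]
        refine hinj ?_
        show (AlgebraTensorModule.lTensor B M N.subtype) (x • c) = _
        rw [map_smul, map_zero]
        exact (congrArg (x • ·) hc).trans h0)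
      exact sub_eq_zero.1 (by rw [← hc, hc0, map_zero])

theorem d2_of_fibre (h2 : D2 J (M ⊗[A] ResidueField A)) : D2 J M := by
  obtain ⟨e⟩ := tensor_residue_equiv (B := B) M (maximalIdeal A)
  let Mb := M ⧸ (maximalIdeal A).map (algebraMap A B) • (⊤ : Submodule B M)
  have h2' : D2 J Mb := h2.congr e.symm
  obtain ⟨x, hxJ, hxb⟩ := CommAlgDim.exists_isSMulRegular_mem (M := Mb)
    ((CommAlgDim.hasSeqIn_one_iff J).1 ((CommAlgDim.le_idealDepth_iff J 1).1 (one_le_iff.2 h2'.1)))
  have hx : IsSMulRegular (M ⊗[A] ResidueField A) x := fun a b hab =>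
    e.injective (hxb ((e.map_smul x a).symm.trans ((congrArg e hab).trans (e.map_smul x b))))
  have hxn : ∀ n, ∀ (P : Type u) [AddCommGroup P] [Module A P] [IsNoetherian A P],
      maximalIdeal A ^ n • (⊤ : Submodule A P) = ⊥ → IsSMulRegular (M ⊗[A] P) x := smul_injective_tensor hx
  have hxM : IsSMulRegular M x := by
    intro a b hab
    have ht := t1_of_fibre (J := Ideal.span {x}) (M := M) (fun t ht => hx (show x • t = x • 0 by
      rw [smul_zero]; exact ht x (Ideal.mem_span_singleton_self x)))
    refine sub_eq_zero.1 (ht _ fun j hj => ?_)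
    obtain ⟨c, rfl⟩ := Ideal.mem_span_singleton'.1 hj
    rw [mul_smul, smul_sub, show x • a = x • b from hab, sub_self, smul_zero]
  let μ : M →ₗ[B] M := DistribSMul.toLinearMap B M x
  let π : M →ₗ[B] QuotSMulTop x M := (x • (⊤ : Submodule B M)).mkQ
  have hμπ : Function.Exact μ π := LinearMap.exact_iff.2 (by
    rw [Submodule.ker_mkQ, LinearMap.range_eq_map]; rfl)
  have hπ : Function.Surjective π := Submodule.mkQ_surjective _
  have hμA : ∀ (P : Type u) [AddCommGroup P] [Module A P] (t : M ⊗[A] P),
      LinearMap.rTensor P (μ.restrictScalars A) t = x • t := fun P _ _ t => by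
    induction t using TensorProduct.induction_on with
    | zero => simp
    | tmul a b => simp [μ, TensorProduct.smul_tmul']
    | add a b ha hb => rw [map_add, ha, hb, smul_add]
  have : Module.Flat A (QuotSMulTop x M) := by
    refine FlatCrit.flat_of_forall_injective_quotient (S := B) (maximalIdeal A)
      ((IsLocalRing.map_maximalIdeal_le _).trans (IsLocalRing.maximalIdeal_le_jacobson _)) fun n N => ?_
    refine (injective_iff_map_eq_zero _).2 fun z hz => ?_
    obtain ⟨w, rfl⟩ := LinearMap.rTensor_surjective N (g := π.restrictScalars A) hπ z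
    let R' := A ⧸ maximalIdeal A ^ n
    have hw : LinearMap.rTensor R' (π.restrictScalars A) (LinearMap.lTensor M N.subtype w) = 0 := by
      rw [← LinearMap.comp_apply, LinearMap.rTensor_comp_lTensor, ← LinearMap.lTensor_comp_rTensor,
        LinearMap.comp_apply]
      exact hz
    obtain ⟨s, hs⟩ := (rTensor_exact R' (f := μ.restrictScalars A) (g := π.restrictScalars A) hμπ hπ _).1 hw
    rw [hμA] at hs
    have hQk : maximalIdeal A ^ n • (⊤ : Submodule A (R' ⧸ N)) = ⊥ := by
      rw [← Submodule.range_mkQ, ← Submodule.map_top, ← Submodule.map_smul'', eq_bot_iff,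
        Submodule.map_le_iff_le_comap, Submodule.smul_le]
      intro a ha y _
      obtain ⟨y, rfl⟩ := Ideal.Quotient.mk_surjective y
      rw [Submodule.mem_comap, Algebra.smul_def, Ideal.Quotient.algebraMap_eq,
        Ideal.Quotient.eq_zero_iff_mem.2 ha, zero_mul, map_zero]
      exact zero_mem _
    have hs0 : LinearMap.lTensor M N.mkQ s = 0 := hxn n _ hQk (show x • _ = x • 0 by
      rw [smul_zero]
      show x • (AlgebraTensorModule.lTensor B M N.mkQ) s = 0
      rw [← map_smul, hs]
      show LinearMap.lTensor M N.mkQ (LinearMap.lTensor M N.subtype w) = 0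
      rw [← LinearMap.comp_apply, ← LinearMap.lTensor_comp, (LinearMap.exact_subtype_mkQ N).linearMap_comp_eq_zero,
        LinearMap.lTensor_zero, LinearMap.zero_apply])
    obtain ⟨s', rfl⟩ := (lTensor_exact M (LinearMap.exact_subtype_mkQ N) N.mkQ_surjective s).1 hs0
    have hw' : w = x • s' := by
      refine Module.Flat.lTensor_preserves_injective_linearMap (M := M) N.subtype N.injective_subtype ?_
      rw [← hs]
      exact ((AlgebraTensorModule.lTensor B M N.subtype).map_smul x s').symm
    rw [hw']
    refine (rTensor_exact N (f := μ.restrictScalars A) (g := π.restrictScalars A) hμπ hπ _).2 ⟨s', hμA _ s'⟩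
  have hq : T1 J ((QuotSMulTop x M) ⊗[A] ResidueField A) := by
    let k := ResidueField A
    let rμ := AlgebraTensorModule.rTensor A k μ
    let rπ := AlgebraTensorModule.rTensor A k π
    have hinj : Function.Injective rμ := fun a b hab => hx (by
      show x • a = x • b
      rw [← hμA, ← hμA]; exact hab)
    have hex : Function.Exact rμ rπ :=
      rTensor_exact k (f := μ.restrictScalars A) (g := π.restrictScalars A) hμπ hπ
    exact T1.right rμ rπ hinj hex (LinearMap.rTensor_surjective k (g := π.restrictScalars A) hπ) h2 h2.1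
  rw [← two_le_iff, show (2 : ℕ∞) = ((2 : ℕ) : ℕ∞) from rfl, CommAlgDim.le_idealDepth_iff]
  exact CommAlgDim.hasSeqIn_succ_of_cons hxJ hxM ((CommAlgDim.le_idealDepth_iff J 1).1 (one_le_iff.2 (t1_of_fibre hq)))

end DepthTwoLib
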