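import Groth.Agent.DepthTwoLib.Flat

/-! # Four term sequences -/

set_option autoImplicit false
universe u

open TensorProduct IsLocalRing

namespace DepthTwoLib

theorem flat_kernel {A : Type u} [CommRing A] {K E G : Type u} [AddCommGroup K] [Module A K] [AddCommGroup E]
    [Module A E] [AddCommGroup G] [Module A G] (i : K →ₗ[A] E) (v : E →ₗ[A] G) (hi : Function.Injective i)
    (hiv : Function.Exact i v) (hv : Function.Surjective v) [Module.Flat A E] [Module.Flat A G] :
    Module.Flat A K := by
  refine Module.Flat.iff_lTensor_injective.mpr fun a _ => ?_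
  have h1 : Function.Injective (LinearMap.rTensor a i) := by
    rw [← LinearMap.lTensor_inj_iff_rTensor_inj]
    exact LinearMap.lTensor_injective_of_exact_of_flat v hv i hi hiv a
  intro x y hxy
  refine h1 (Module.Flat.lTensor_preserves_injective_linearMap (M := E) a.subtype a.injective_subtype ?_)
  simp only [← LinearMap.comp_apply, LinearMap.lTensor_comp_rTensor]
  rw [← LinearMap.rTensor_comp_lTensor, LinearMap.comp_apply, LinearMap.comp_apply, hxy]

variable {A B : Type u} [CommRing A] [CommRing B] [Algebra A B] {J : Ideal B}

theorem flat_localizedModule (M : Type u) [AddCommGroup M] [Module B M] [Module A M] [IsScalarTower A B M]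
    [Module.Flat A M] (S : Submonoid B) : Module.Flat A (LocalizedModule S M) := by
  let g := LocalizedModule.mkLinearMap S M
  refine Module.Flat.iff_lTensor_injective.mpr fun a _ => ?_
  have h := IsLocalizedModule.map_injective S (AlgebraTensorModule.rTensor A (a : Type u) g)
    (AlgebraTensorModule.rTensor A A g) (AlgebraTensorModule.lTensor B M a.subtype)
    (Module.Flat.lTensor_preserves_injective_linearMap _ a.injective_subtype)
  rw [IsLocalizedModule.map_lTensor] at h
  exact h

variable {F E0 K E1 G : Type u}
  [AddCommGroup F] [Module B F] [Module A F] [IsScalarTower A B F]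
  [AddCommGroup E0] [Module B E0] [Module A E0] [IsScalarTower A B E0]
  [AddCommGroup K] [Module B K] [Module A K] [IsScalarTower A B K]
  [AddCommGroup E1] [Module B E1] [Module A E1] [IsScalarTower A B E1]
  [AddCommGroup G] [Module B G] [Module A G] [IsScalarTower A B G]
  (i : K →ₗ[B] E1) (v : E1 →ₗ[B] G) (hi : Function.Injective i) (hiv : Function.Exact i v)
  (hv : Function.Surjective v)

include hi hiv hv in
theorem flatOff_kernel [Module.Flat A E1] (hG : FlatOff A B J G) : FlatOff A B J K := by
  intro q hq
  let S := q.asIdeal.primeCompl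
  let gK := LocalizedModule.mkLinearMap S K
  let gE := LocalizedModule.mkLinearMap S E1
  let gG := LocalizedModule.mkLinearMap S G
  have : Module.Flat A (LocalizedModule S G) := hG q hq
  have := flat_localizedModule (A := A) E1 S
  exact flat_kernel ((IsLocalizedModule.map S gK gE i).restrictScalars A)
    ((IsLocalizedModule.map S gE gG v).restrictScalars A) (IsLocalizedModule.map_injective S gK gE i hi)
    (IsLocalizedModule.map_exact S gK gE gG i v hiv) (IsLocalizedModule.map_surjective S gE gG v hv)

variable [IsLocalRing A] [IsNoetherianRing A] [IsNoetherianRing B] [IsLocalRing B] [IsLocalHom (algebraMap A B)]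

include hi hiv hv in
/-- If `K` satisfies `T1` on the closed fibre then the cokernel is flat. -/
theorem flat_coker [Module.Finite B K] [Module.Finite B G] [Module.Flat A E1] (hG : FlatOff A B J G)
    (hK : T1 J (K ⊗[A] ResidueField A)) : Module.Flat A G := by
  have hKf := flatOff_kernel i v hi hiv hv hG
  refine FlatCrit.flat_of_forall_injective_quotient (S := B) (maximalIdeal A)
    ((IsLocalRing.map_maximalIdeal_le _).trans (IsLocalRing.maximalIdeal_le_jacobson _)) fun n N => ?_
  let Q := (A ⧸ maximalIdeal A ^ n) ⧸ N
  have hQk : maximalIdeal A ^ n • (⊤ : Submodule A Q) = ⊥ := by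
    rw [← Submodule.range_mkQ, ← Submodule.map_top, ← Submodule.map_smul'', eq_bot_iff,
      Submodule.map_le_iff_le_comap, Submodule.smul_le]
    intro a ha x _
    obtain ⟨y, rfl⟩ := Ideal.Quotient.mk_surjective x
    rw [Submodule.mem_comap, Algebra.smul_def, Ideal.Quotient.algebraMap_eq,
      Ideal.Quotient.eq_zero_iff_mem.2 ha, zero_mul, map_zero]
    exact zero_mem _
  have hQi := rTensor_injective i v hi hiv hv hG Q (t1_tensor hKf hK n Q hQk)
  refine (injective_iff_map_eq_zero _).2 fun z hz => ?_
  obtain ⟨w, rfl⟩ := LinearMap.rTensor_surjective N (g := v.restrictScalars A) hv z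
  have hw : LinearMap.rTensor (A ⧸ maximalIdeal A ^ n) (v.restrictScalars A) (LinearMap.lTensor E1 N.subtype w) = 0 := by
    rw [← LinearMap.comp_apply, LinearMap.rTensor_comp_lTensor, ← LinearMap.lTensor_comp_rTensor,
      LinearMap.comp_apply]
    exact hz
  obtain ⟨s, hs⟩ := (rTensor_exact (A ⧸ maximalIdeal A ^ n) (f := i.restrictScalars A) (g := v.restrictScalars A)
    hiv hv _).1 hw
  have hs0 : LinearMap.lTensor K N.mkQ s = 0 := by
    refine (injective_iff_map_eq_zero _).1 hQi _ ?_
    show LinearMap.rTensor Q (i.restrictScalars A) (LinearMap.lTensor K N.mkQ s) = 0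
    rw [← LinearMap.comp_apply, LinearMap.rTensor_comp_lTensor, ← LinearMap.lTensor_comp_rTensor,
      LinearMap.comp_apply, hs, ← LinearMap.comp_apply, ← LinearMap.lTensor_comp,
      (LinearMap.exact_subtype_mkQ N).linearMap_comp_eq_zero, LinearMap.lTensor_zero,
      LinearMap.zero_apply]
  obtain ⟨s', rfl⟩ := (lTensor_exact K (LinearMap.exact_subtype_mkQ N) N.mkQ_surjective s).1 hs0
  have hw' : w = LinearMap.rTensor N (i.restrictScalars A) s' := by
    refine Module.Flat.lTensor_preserves_injective_linearMap (M := E1) N.subtype N.injective_subtype ?_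
    rw [← hs, ← LinearMap.comp_apply, LinearMap.rTensor_comp_lTensor, ← LinearMap.lTensor_comp_rTensor,
      LinearMap.comp_apply]
  rw [hw']
  exact (rTensor_exact N (f := i.restrictScalars A) (g := v.restrictScalars A) hiv hv _).2 ⟨s', rfl⟩

variable (f : F →ₗ[B] E0) (g : E0 →ₗ[B] K) (hf : Function.Injective f) (hfg : Function.Exact f g)
  (hg : Function.Surjective g)

include hi hiv hv hf hfg hg in
theorem fourTerm [Module.Finite B F] [Module.Finite B E0] [Module.Finite B K] [Module.Finite B E1]
    [Module.Finite B G] [Module.Flat A E0] [Module.Flat A E1] (hG : FlatOff A B J G)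
    (h0 : D2 J (E0 ⊗[A] ResidueField A)) (h1 : T1 J (E1 ⊗[A] ResidueField A)) :
    FlatOff A B J F ∧ (D2 J (F ⊗[A] ResidueField A) ↔ Module.Flat A G) ∧ (Module.Flat A G → Module.Flat A F) := by
  have hKf := flatOff_kernel i v hi hiv hv hG
  have hFf := flatOff_kernel f g hf hfg hg hKf
  let k := ResidueField A
  let rf := AlgebraTensorModule.rTensor A k f
  let rg := AlgebraTensorModule.rTensor A k g
  have hex : Function.Exact rf rg :=
    rTensor_exact k (f := f.restrictScalars A) (g := g.restrictScalars A) hfg hg
  have hsur : Function.Surjective rg := LinearMap.rTensor_surjective k (g := g.restrictScalars A) hg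
  refine ⟨hFf, ⟨fun hF => ?_, fun hflat => ?_⟩, fun hflat => ?_⟩
  · have hinj : Function.Injective rf := rTensor_injective f g hf hfg hg hKf k hF.1
    exact flat_coker i v hi hiv hv hG (T1.right rf rg hinj hex hsur hF h0.1)
  · have : Module.Flat A K := flat_kernel (i.restrictScalars A) (v.restrictScalars A) hi hiv hv
    have hK : T1 J (K ⊗[A] k) := h1.of_injective (AlgebraTensorModule.rTensor A k i) <| by
      show Function.Injective (LinearMap.rTensor k (i.restrictScalars A))
      rw [← LinearMap.lTensor_inj_iff_rTensor_inj]
      exact LinearMap.lTensor_injective_of_exact_of_flat (v.restrictScalars A) hv _ hi hiv k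
    have hinj : Function.Injective rf := by
      show Function.Injective (LinearMap.rTensor k (f.restrictScalars A))
      rw [← LinearMap.lTensor_inj_iff_rTensor_inj]
      exact LinearMap.lTensor_injective_of_exact_of_flat (g.restrictScalars A) hg _ hf hfg k
    exact D2.left rf rg hinj hex h0 hK
  · have : Module.Flat A K := flat_kernel (i.restrictScalars A) (v.restrictScalars A) hi hiv hv
    exact flat_kernel (f.restrictScalars A) (g.restrictScalars A) hf hfg hg

end DepthTwoLib
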