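import Groth.Prelude.Def_EGA4b
import Groth.Prelude.Def_FlatCA
import Groth.Agent.DepthTwoLib.Basic
import Groth.Agent.FlatCrit.Basic
import Mathlib.RingTheory.Flat.Equalizer
import Mathlib.Algebra.Module.LocalizedModule.Exact

/-! # Flatness off `V(J)` and depth along the closed fibre -/

set_option autoImplicit false
universe u

open TensorProduct IsLocalRing

namespace DepthTwoLib

variable (A B : Type u) [CommRing A] [CommRing B] [Algebra A B] (J : Ideal B)

/-- `M` is flat over `A` off `V(J)`. -/
def FlatOff (M : Type u) [AddCommGroup M] [Module B M] [Module A M] [IsScalarTower A B M] : Prop :=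
  ∀ q : PrimeSpectrum B, ¬ J ≤ q.asIdeal → FlatCA.FlatAt A q.asIdeal M

variable {A B J} {M : Type u} [AddCommGroup M] [Module B M] [Module A M] [IsScalarTower A B M]
variable {P P' : Type u} [AddCommGroup P] [Module A P] [AddCommGroup P'] [Module A P']

theorem supported_lTensor (hM : FlatOff A B J M) (f : P' →ₗ[A] P) (hf : Function.Injective f)
    (t : M ⊗[A] P') (ht : AlgebraTensorModule.lTensor B M f t = 0) (q : Ideal B) (hq : q.IsPrime)
    (hJ : ¬ J ≤ q) : ∃ u ∉ q, u • t = 0 := by
  let g := LocalizedModule.mkLinearMap q.primeCompl M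
  have : Module.Flat A (LocalizedModule q.primeCompl M) := hM ⟨q, hq⟩ hJ
  have hsq : ∀ x : M ⊗[A] P', AlgebraTensorModule.lTensor B _ f (AlgebraTensorModule.rTensor A P' g x) =
      AlgebraTensorModule.rTensor A P g (AlgebraTensorModule.lTensor B M f x) := fun x => by
    induction x using TensorProduct.induction_on with
    | zero => simp
    | tmul a b => simp
    | add a b ha hb => simp only [map_add, ha, hb]
  have h0 : AlgebraTensorModule.rTensor A P' g t = 0 := by
    refine Module.Flat.lTensor_preserves_injective_linearMap (M := LocalizedModule q.primeCompl M) f hf ?_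
    rw [map_zero]
    exact (hsq t).trans (by rw [ht, map_zero])
  obtain ⟨u, hu⟩ := (IsLocalizedModule.eq_zero_iff q.primeCompl _).1 h0
  exact ⟨u, u.2, hu⟩

theorem lTensor_injective [IsNoetherianRing B] (hM : FlatOff A B J M) (f : P' →ₗ[A] P)
    (hf : Function.Injective f) (h1 : T1 J (M ⊗[A] P')) : Function.Injective (LinearMap.lTensor M f) := by
  refine (injective_iff_map_eq_zero _).2 fun t ht => h1.eq_zero t ?_
  exact supported_lTensor hM f hf t ht

/-- For `0 → K → E → G → 0` with `G` flat off `V(J)`. -/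
theorem rTensor_injective [IsNoetherianRing B] {K E G : Type u} [AddCommGroup K] [Module B K] [Module A K]
    [IsScalarTower A B K] [AddCommGroup E] [Module B E] [Module A E] [IsScalarTower A B E] [AddCommGroup G]
    [Module B G] [Module A G] [IsScalarTower A B G] (i : K →ₗ[B] E) (v : E →ₗ[B] G)
    (hi : Function.Injective i) (hiv : Function.Exact i v) (hv : Function.Surjective v)
    (hG : FlatOff A B J G) (P : Type u) [AddCommGroup P] [Module A P] (h1 : T1 J (K ⊗[A] P)) :
    Function.Injective (AlgebraTensorModule.rTensor A P i) := by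
  refine (injective_iff_map_eq_zero _).2 fun t ht => h1.eq_zero t fun q hq hJ => ?_
  let S := q.primeCompl
  let gK := LocalizedModule.mkLinearMap S K
  let gE := LocalizedModule.mkLinearMap S E
  let gG := LocalizedModule.mkLinearMap S G
  have : Module.Flat A (LocalizedModule S G) := hG ⟨q, hq⟩ hJ
  let i' := IsLocalizedModule.map S gK gE i
  let v' := IsLocalizedModule.map S gE gG v
  have hi' : Function.Injective i' := IsLocalizedModule.map_injective S gK gE i hi
  have hv' : Function.Surjective v' := IsLocalizedModule.map_surjective S gE gG v hv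
  have hiv' : Function.Exact i' v' := IsLocalizedModule.map_exact S gK gE gG i v hiv
  have hinj : Function.Injective (LinearMap.rTensor P (i'.restrictScalars A)) := by
    rw [← LinearMap.lTensor_inj_iff_rTensor_inj]
    exact LinearMap.lTensor_injective_of_exact_of_flat (v'.restrictScalars A) hv' _ hi' hiv' P
  have hsq : ∀ x : K ⊗[A] P, LinearMap.rTensor P (i'.restrictScalars A) (AlgebraTensorModule.rTensor A P gK x) =
      AlgebraTensorModule.rTensor A P gE (AlgebraTensorModule.rTensor A P i x) := fun x => by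
    induction x using TensorProduct.induction_on with
    | zero => simp
    | tmul a b =>
      show i' (gK a) ⊗ₜ[A] b = gE (i a) ⊗ₜ[A] b
      rw [IsLocalizedModule.map_apply]
    | add a b ha hb => simp only [map_add, ha, hb]
  have h0 : AlgebraTensorModule.rTensor A P gK t = 0 := hinj (by rw [hsq, ht, map_zero, map_zero])
  obtain ⟨u, hu⟩ := (IsLocalizedModule.eq_zero_iff S _).1 h0
  exact ⟨u, u.2, hu⟩

variable [IsLocalRing A] [IsNoetherianRing B]

theorem tensor_residue_equiv (M : Type u) [AddCommGroup M] [Module B M] [Module A M] [IsScalarTower A B M]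
    (I : Ideal A) : Nonempty ((M ⊗[A] (A ⧸ I)) ≃ₗ[B] M ⧸ I.map (algebraMap A B) • (⊤ : Submodule B M)) := by
  let ψ : M →ₗ[B] M ⊗[A] (A ⧸ I) :=
    (AlgebraTensorModule.lTensor B M (I : Submodule A A).mkQ) ∘ₗ (AlgebraTensorModule.rid A B M).symm.toLinearMap
  have hψ : Function.Surjective ψ :=
    (LinearMap.lTensor_surjective M (Submodule.mkQ_surjective _)).comp (AlgebraTensorModule.rid A B M).symm.surjective
  have hker : LinearMap.ker ψ = I.map (algebraMap A B) • (⊤ : Submodule B M) := by
    ext m
    have h1 : ψ m = 0 ↔ m ∈ I • (⊤ : Submodule A M) := by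
      rw [← (TensorProduct.tensorQuotEquivQuotSMul M I).map_eq_zero_iff,
        show ψ m = m ⊗ₜ[A] Ideal.Quotient.mk I 1 by simp [ψ],
        TensorProduct.tensorQuotEquivQuotSMul_tmul_mk, one_smul, Submodule.Quotient.mk_eq_zero]
    rw [LinearMap.mem_ker, h1, ← Submodule.restrictScalars_mem A (I.map (algebraMap A B) • (⊤ : Submodule B M)),
      Ideal.smul_restrictScalars, Submodule.restrictScalars_top]
  exact ⟨(ψ.quotKerEquivOfSurjective hψ).symm.trans (Submodule.quotEquivOfEq _ _ hker)⟩

/-- Submodules of modules killed by a power of the maximal ideal. -/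
theorem induction_killed {motive : ∀ (P : Type u) [AddCommGroup P] [Module A P], Prop}
    (hres : ∀ (ι : Type u) [Finite ι], motive (ι → ResidueField A))
    (hequiv : ∀ (P Q : Type u) [AddCommGroup P] [Module A P] [AddCommGroup Q] [Module A Q],
      (P ≃ₗ[A] Q) → motive Q → motive P)
    (hext : ∀ (P : Type u) [AddCommGroup P] [Module A P] (N : Submodule A P),
      motive N → motive (P ⧸ N) → motive P) :
    ∀ (n : ℕ) (P : Type u) [AddCommGroup P] [Module A P] [IsNoetherian A P],
      maximalIdeal A ^ n • (⊤ : Submodule A P) = ⊥ → motive P := by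
  intro n
  induction n with
  | zero =>
    intro P _ _ _ h
    rw [pow_zero, Ideal.one_eq_top, Submodule.top_smul] at h
    have : Subsingleton P := Submodule.subsingleton_iff A |>.1 (subsingleton_of_bot_eq_top h.symm)
    exact hequiv P (PEmpty.{u+1} → ResidueField A) 0 (hres _) |> fun x => x
  | succ n ih =>
    intro P _ _ _ h
    refine hext P (maximalIdeal A ^ n • ⊤) ?_ ?_
    · let N : Submodule A P := maximalIdeal A ^ n • ⊤
      have hN : ∀ a ∈ maximalIdeal A, ∀ x : N, a • x = 0 := fun a ha x => Subtype.ext <| by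
        have : a • (x : P) ∈ maximalIdeal A • N := Submodule.smul_mem_smul ha x.2
        rw [← mul_smul, ← pow_succ', h] at this
        simpa using this
      letI : Module (ResidueField A) N :=
        Module.IsTorsionBySet.module (I := maximalIdeal A) fun x a => hN a a.2 x
      have : IsScalarTower A (ResidueField A) N := ⟨fun a c x => by
        obtain ⟨c, rfl⟩ := Ideal.Quotient.mk_surjective c
        exact mul_smul a c x⟩
      have : Module.Finite A N := inferInstance
      have : Module.Finite (ResidueField A) N := Module.Finite.of_restrictScalars_finite A _ _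
      exact hequiv N _ ((Module.finBasis (ResidueField A) N).equivFun.restrictScalars A |>.trans
        (LinearEquiv.funCongrLeft A (ResidueField A) Equiv.ulift.{u})) (hres _)
    · refine ih _ ?_
      rw [← Submodule.range_mkQ, ← Submodule.map_top, ← Submodule.map_smul'', eq_bot_iff,
        Submodule.map_le_iff_le_comap]
      intro x hx
      simpa [Submodule.Quotient.mk_eq_zero] using hx

variable [IsNoetherianRing A]

theorem tensor_pi_equiv (M : Type u) [AddCommGroup M] [Module B M] [Module A M] [IsScalarTower A B M]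
    (ι : Type u) [Finite ι] (Q : Type u) [AddCommGroup Q] [Module A Q] :
    Nonempty ((M ⊗[A] (ι → Q)) ≃ₗ[B] (ι → M ⊗[A] Q)) := by
  classical
  have := Fintype.ofFinite ι
  exact ⟨TensorProduct.piRight A B M fun _ : ι => Q⟩

theorem t1_tensor (hM : FlatOff A B J M) (h1 : T1 J (M ⊗[A] ResidueField A)) :
    ∀ (n : ℕ) (P : Type u) [AddCommGroup P] [Module A P] [IsNoetherian A P],
      maximalIdeal A ^ n • (⊤ : Submodule A P) = ⊥ → T1 J (M ⊗[A] P) :=
  induction_killed (motive := fun P _ _ => T1 J (M ⊗[A] P))
    (fun ι _ => h1.pi.congr (tensor_pi_equiv M ι _).some)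
    (fun P Q _ _ _ _ e h => h.congr (AlgebraTensorModule.congr (LinearEquiv.refl B M) e))
    fun P _ _ N hN hQ => T1.extension (AlgebraTensorModule.lTensor B M N.subtype)
      (AlgebraTensorModule.lTensor B M N.mkQ) (lTensor_injective hM _ N.injective_subtype hN)
      (lTensor_exact M (LinearMap.exact_subtype_mkQ N) N.mkQ_surjective) hN hQ

theorem d2_tensor (hM : FlatOff A B J M) (h2 : D2 J (M ⊗[A] ResidueField A)) :
    ∀ (n : ℕ) (P : Type u) [AddCommGroup P] [Module A P] [IsNoetherian A P],
      maximalIdeal A ^ n • (⊤ : Submodule A P) = ⊥ → D2 J (M ⊗[A] P) :=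
  induction_killed (motive := fun P _ _ => D2 J (M ⊗[A] P))
    (fun ι _ => h2.pi.congr (tensor_pi_equiv M ι _).some)
    (fun P Q _ _ _ _ e h => h.congr (AlgebraTensorModule.congr (LinearEquiv.refl B M) e))
    fun P _ _ N hN hQ => D2.extension (AlgebraTensorModule.lTensor B M N.subtype)
      (AlgebraTensorModule.lTensor B M N.mkQ) (lTensor_injective hM _ N.injective_subtype hN.1)
      (lTensor_exact M (LinearMap.exact_subtype_mkQ N) N.mkQ_surjective)
      (LinearMap.lTensor_surjective M N.mkQ_surjective) hN hQ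

omit [IsNoetherianRing B] [IsNoetherianRing A] in
theorem killed_quotient (n : ℕ) (N : Submodule A (A ⧸ maximalIdeal A ^ n)) :
    maximalIdeal A ^ n • (⊤ : Submodule A N) = ⊥ := by
  rw [eq_bot_iff, Submodule.smul_le]
  intro a ha x _
  refine Subtype.ext ?_
  obtain ⟨y, hy⟩ := Ideal.Quotient.mk_surjective (x : A ⧸ maximalIdeal A ^ n)
  show a • (x : A ⧸ maximalIdeal A ^ n) = 0
  rw [← hy, Algebra.smul_def, Ideal.Quotient.algebraMap_eq, Ideal.Quotient.eq_zero_iff_mem.2 ha, zero_mul]

variable [IsLocalRing B] [IsLocalHom (algebraMap A B)] [Module.Finite B M]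

theorem t1_fibMod_iff :
    1 ≤ LocCoh.idealDepth J (EGA4.FibMod A B M) ↔ T1 J (M ⊗[A] ResidueField A) := by
  rw [one_le_iff]
  obtain ⟨e⟩ := tensor_residue_equiv (B := B) M (maximalIdeal A)
  exact ⟨fun h => h.congr e, fun h => h.congr e.symm⟩

theorem d2_fibMod_iff :
    2 ≤ LocCoh.idealDepth J (EGA4.FibMod A B M) ↔ D2 J (M ⊗[A] ResidueField A) := by
  rw [two_le_iff]
  obtain ⟨e⟩ := tensor_residue_equiv (B := B) M (maximalIdeal A)
  exact ⟨fun h => h.congr e, fun h => h.congr e.symm⟩

theorem flat_of_t1 (hM : FlatOff A B J M) (h1 : T1 J (M ⊗[A] ResidueField A)) : Module.Flat A M := by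
  refine FlatCrit.flat_of_forall_injective_quotient (S := B) (maximalIdeal A) ?_ fun n N =>
    lTensor_injective hM _ N.injective_subtype (t1_tensor hM h1 n N (killed_quotient n N))
  exact (IsLocalRing.map_maximalIdeal_le _).trans (IsLocalRing.maximalIdeal_le_jacobson _)

theorem two_le_idealDepth_pow (hM : FlatOff A B J M) (h2 : D2 J (M ⊗[A] ResidueField A)) (n : ℕ) :
    2 ≤ LocCoh.idealDepth J (M ⧸ ((EGA4.mB A B) ^ (n + 1) • (⊤ : Submodule B M))) := by
  rw [two_le_iff]
  obtain ⟨e⟩ := tensor_residue_equiv (B := B) M (maximalIdeal A ^ (n + 1))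
  have h := (d2_tensor hM h2 (n + 1) (A ⧸ maximalIdeal A ^ (n + 1)) ?_).congr e.symm
  · refine h.congr (Submodule.quotEquivOfEq _ _ ?_)
    rw [EGA4.mB, Ideal.map_pow]
  rw [eq_bot_iff, Submodule.smul_le]
  intro a ha x _
  obtain ⟨y, rfl⟩ := Ideal.Quotient.mk_surjective x
  rw [Submodule.mem_bot, Algebra.smul_def, Ideal.Quotient.algebraMap_eq,
    Ideal.Quotient.eq_zero_iff_mem.2 ha, zero_mul]

end DepthTwoLib
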