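import Groth.Agent.DepthTwoLib.FourTerm
import Groth.Agent.LocCohLib.Facts

/-! # Flatness of the cokernel from `H²_J` of the closed fibre of the kernel -/

set_option autoImplicit false
set_option backward.isDefEq.respectTransparency false
set_option backward.isDefEq.respectTransparency.types false

universe u

open CategoryTheory TensorProduct IsLocalRing

namespace DepthTwoLib

section LES

variable {B : Type u} [CommRing B] [IsNoetherianRing B] {J : Ideal B} {M M' M'' : Type u}
  [AddCommGroup M] [Module B M] [AddCommGroup M'] [Module B M'] [AddCommGroup M''] [Module B M'']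
  (f : M' →ₗ[B] M) (g : M →ₗ[B] M'') (hf : Function.Injective f) (hfg : Function.Exact f g)
  (hg : Function.Surjective g)

theorem subsingleton_H_congr (e : M' ≃ₗ[B] M) (i : ℕ) (h : Subsingleton (LocCoh.H J i M)) :
    Subsingleton (LocCoh.H J i M') :=
  (((localCohomology J i).mapIso e.toModuleIso).toLinearEquiv.toEquiv).subsingleton_congr.2 h

theorem seq_comp (hfg : Function.Exact f g) : g ∘ₗ f = 0 := LinearMap.ext fun x => hfg.apply_apply_eq_zero x

include hf hfg hg in
theorem seq_shortExact :
    (ShortComplex.mk (ModuleCat.ofHom f) (ModuleCat.ofHom g)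
      (by rw [← ModuleCat.ofHom_comp, seq_comp f g hfg]; rfl)).ShortExact where
  exact := (ShortComplex.ShortExact.moduleCat_exact_iff_function_exact _).2 hfg
  mono_f := (ModuleCat.mono_iff_injective _).2 hf
  epi_g := (ModuleCat.epi_iff_surjective _).2 hg

include hf hfg hg in
theorem subsingleton_H_right (i : ℕ) (h : Subsingleton (LocCoh.H J i M))
    (h' : Subsingleton (LocCoh.H J (i + 1) M')) : Subsingleton (LocCoh.H J i M'') := by
  refine ⟨fun a b => sub_eq_zero.1 ?_⟩
  obtain ⟨z, hz⟩ := (ShortComplex.moduleCat_exact_iff _).1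
    ((LocCohLib.lcDelta J).exact₃ (seq_shortExact f g hf hfg hg) i) (a - b)
    (Subsingleton.elim (α := LocCoh.H J (i + 1) M') _ _)
  have hz0 : z = 0 := Subsingleton.elim (α := LocCoh.H J i M) z 0
  rw [← hz, hz0]
  exact map_zero _

end LES

variable {A B : Type u} [CommRing A] [CommRing B] [Algebra A B] {J : Ideal B}

theorem supported_rTensor {K E G : Type u} [AddCommGroup K] [Module B K] [Module A K] [IsScalarTower A B K]
    [AddCommGroup E] [Module B E] [Module A E] [IsScalarTower A B E] [AddCommGroup G]
    [Module B G] [Module A G] [IsScalarTower A B G] (i : K →ₗ[B] E) (v : E →ₗ[B] G)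
    (hi : Function.Injective i) (hiv : Function.Exact i v) (hv : Function.Surjective v)
    (hG : FlatOff A B J G) (P : Type u) [AddCommGroup P] [Module A P] (t : K ⊗[A] P)
    (ht : AlgebraTensorModule.rTensor A P i t = 0) (q : Ideal B) (hq : q.IsPrime) (hJ : ¬ J ≤ q) :
    ∃ w ∉ q, w • t = 0 := by
  let S := q.primeCompl
  let gK := LocalizedModule.mkLinearMap S K
  let gE := LocalizedModule.mkLinearMap S E
  let gG := LocalizedModule.mkLinearMap S G
  have : Module.Flat A (LocalizedModule S G) := hG ⟨q, hq⟩ hJ
  let i' := IsLocalizedModule.map S gK gE i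
  let v' := IsLocalizedModule.map S gE gG v
  have hi' : Function.Injective i' := IsLocalizedModule.map_injective S gK gE i hi
  have hv' : Function.Surjective v' := IsLocalizedModule.map_surjective S gE gG v hv
  have hiv' : Function.Exact i' v' := IsLocalizedModule.map_exact S gK gE gG i v hiv
  have hinj : Function.Injective (LinearMap.rTensor P (i'.restrictScalars A)) := by
    rw [← LinearMap.lTensor_inj_iff_rTensor_inj]
    exact LinearMap.lTensor_injective_of_exact_of_flat (v'.restrictScalars A) hv' _ hi' hiv' P
  have hsq : ∀ x : K ⊗[A] P, LinearMap.rTensor P (i'.restrictScalars A) (AlgebraTensorModule.rTensor A P gK x) =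
      AlgebraTensorModule.rTensor A P gE (AlgebraTensorModule.rTensor A P i x) := fun x => by
    induction x using TensorProduct.induction_on with
    | zero => simp
    | tmul a b =>
      show i' (gK a) ⊗ₜ[A] b = gE (i a) ⊗ₜ[A] b
      rw [IsLocalizedModule.map_apply]
    | add a b ha hb => simp only [map_add, ha, hb]
  have h0 : AlgebraTensorModule.rTensor A P gK t = 0 := hinj (by rw [hsq, ht, map_zero, map_zero])
  obtain ⟨w, hw⟩ := (IsLocalizedModule.eq_zero_iff S _).1 h0
  exact ⟨w, w.2, hw⟩

variable [IsLocalRing A] [IsNoetherianRing B]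

/-- The kernel of a map on closed fibres has no higher local cohomology. -/
theorem subsingleton_H_ker {K E G : Type u} [AddCommGroup K] [Module B K] [Module A K] [IsScalarTower A B K]
    [AddCommGroup E] [Module B E] [Module A E] [IsScalarTower A B E] [AddCommGroup G]
    [Module B G] [Module A G] [IsScalarTower A B G] (i : K →ₗ[B] E) (v : E →ₗ[B] G)
    (hi : Function.Injective i) (hiv : Function.Exact i v) (hv : Function.Surjective v)
    (hG : FlatOff A B J G) (n : ℕ) (hn : 0 < n) :
    Subsingleton (LocCoh.H J n (LinearMap.ker (AlgebraTensorModule.rTensor A (ResidueField A) i))) := by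
  refine LocCohLib.subsingleton_H_of_torsion J _ (fun t => ?_) n hn
  obtain ⟨N, hN⟩ := exists_pow_smul_eq_zero (J := J) (t : K ⊗[A] ResidueField A) fun q hq hJ =>
    supported_rTensor i v hi hiv hv hG _ _ t.2 q hq hJ
  exact ⟨N, fun a ha => Subtype.ext (hN a ha)⟩

theorem subsingleton_H_range {M M' : Type u} [AddCommGroup M] [Module B M] [AddCommGroup M'] [Module B M']
    (f : M' →ₗ[B] M) (n : ℕ) (h : Subsingleton (LocCoh.H J n M'))
    (hk : Subsingleton (LocCoh.H J (n + 1) (LinearMap.ker f))) :
    Subsingleton (LocCoh.H J n (LinearMap.range f)) :=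
  subsingleton_H_right (LinearMap.ker f).subtype f.rangeRestrict (Submodule.injective_subtype _)
    (LinearMap.exact_iff.2 (by rw [LinearMap.ker_rangeRestrict, Submodule.range_subtype]))
    f.surjective_rangeRestrict n h hk

theorem subsingleton_H_exact {M M' M'' : Type u} [AddCommGroup M] [Module B M] [AddCommGroup M'] [Module B M']
    [AddCommGroup M''] [Module B M''] (f : M' →ₗ[B] M) (g : M →ₗ[B] M'') (hfg : Function.Exact f g)
    (hg : Function.Surjective g) (n : ℕ) (h : Subsingleton (LocCoh.H J n M))
    (hr : Subsingleton (LocCoh.H J (n + 1) (LinearMap.range f))) : Subsingleton (LocCoh.H J n M'') :=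
  subsingleton_H_right (LinearMap.range f).subtype g (Submodule.injective_subtype _)
    (LinearMap.exact_iff.2 (by rw [Submodule.range_subtype]; exact LinearMap.exact_iff.1 hfg)) hg n h hr

variable [IsNoetherianRing A] [IsLocalRing B] [IsLocalHom (algebraMap A B)]
variable {F E0 K E1 G : Type u}
  [AddCommGroup F] [Module B F] [Module A F] [IsScalarTower A B F]
  [AddCommGroup E0] [Module B E0] [Module A E0] [IsScalarTower A B E0]
  [AddCommGroup K] [Module B K] [Module A K] [IsScalarTower A B K]
  [AddCommGroup E1] [Module B E1] [Module A E1] [IsScalarTower A B E1]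
  [AddCommGroup G] [Module B G] [Module A G] [IsScalarTower A B G]

theorem flat_coker_of_H2 [Module.Finite B E0] [Module.Finite B E1] [Module.Finite B G] [Module.Flat A E1]
    (i : K →ₗ[B] E1) (v : E1 →ₗ[B] G) (hi : Function.Injective i) (hiv : Function.Exact i v)
    (hv : Function.Surjective v) (f : F →ₗ[B] E0) (g : E0 →ₗ[B] K) (hf : Function.Injective f)
    (hfg : Function.Exact f g) (hg : Function.Surjective g) (hG : FlatOff A B J G)
    (h0 : ∀ n < 2, Subsingleton (LocCoh.H J n (E0 ⊗[A] ResidueField A)))
    (h1 : Subsingleton (LocCoh.H J 0 (E1 ⊗[A] ResidueField A)))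
    (hH2 : Subsingleton (LocCoh.H J 2 (F ⊗[A] ResidueField A))) : Module.Flat A G := by
  let k := ResidueField A
  let rf := AlgebraTensorModule.rTensor A k f
  let rg := AlgebraTensorModule.rTensor A k g
  let ri := AlgebraTensorModule.rTensor A k i
  let rv := AlgebraTensorModule.rTensor A k v
  have hKf := flatOff_kernel i v hi hiv hv hG
  have hN : Subsingleton (LocCoh.H J 2 (LinearMap.range rf)) :=
    subsingleton_H_range rf 2 hH2 (subsingleton_H_ker f g hf hfg hg hKf 3 (by omega))
  have hK : Subsingleton (LocCoh.H J 1 (K ⊗[A] k)) :=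
    subsingleton_H_exact rf rg (rTensor_exact k (f := f.restrictScalars A) (g := g.restrictScalars A) hfg hg)
      (LinearMap.rTensor_surjective k (g := g.restrictScalars A) hg) 1 (h0 1 (by omega)) hN
  have hQ : Subsingleton (LocCoh.H J 1 (LinearMap.range ri)) :=
    subsingleton_H_range ri 1 hK (subsingleton_H_ker i v hi hiv hv hG 2 (by omega))
  have hGk : Subsingleton (LocCoh.H J 0 (G ⊗[A] k)) :=
    subsingleton_H_exact ri rv (rTensor_exact k (f := i.restrictScalars A) (g := v.restrictScalars A) hiv hv)
      (LinearMap.rTensor_surjective k (g := v.restrictScalars A) hv) 0 h1 hQ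
  refine flat_of_t1 hG fun m hm => ?_
  haveI : Subsingleton (DRing.torsionSub J (G ⊗[A] k)) :=
    ((LocCohLib.H0Equiv J (G ⊗[A] k)).toEquiv.subsingleton_congr).1 hGk
  have hmem : m ∈ DRing.torsionSub J (G ⊗[A] k) := ⟨1, fun a ha => hm a (by rwa [pow_one] at ha)⟩
  exact congrArg Subtype.val (Subsingleton.elim (α := DRing.torsionSub J (G ⊗[A] k)) ⟨m, hmem⟩ 0)

end DepthTwoLib
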