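import Groth.Agent.DepthTwoLib.Reflexive
import Mathlib.RingTheory.LocalRing.Module

/-! # Free presentations of reflexive modules that are free off `V(J)` -/

set_option autoImplicit false
universe u

namespace DepthTwoLib

variable {B : Type u} [CommRing B]

/-- If `h t h = c h` with `c` a unit at `q`, the cokernel of `h` is free at `q`. -/
theorem free_coker (q : Ideal B) [q.IsPrime] {E E' : Type u} [AddCommGroup E] [Module B E] [AddCommGroup E']
    [Module B E'] [Module.Finite B E'] [Module.Free B E'] (h : E →ₗ[B] E') (t : E' →ₗ[B] E) (c : B)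
    (hc : c ∈ q.primeCompl) (hht : ∀ x, h (t (h x)) = c • h x) :
    Module.Free (Localization.AtPrime q) (LocalizedModule q.primeCompl (E' ⧸ LinearMap.range h)) := by
  let S := q.primeCompl
  let π := LocalizedModule.map S (LinearMap.range h).mkQ
  let ht := h ∘ₗ t
  let e : E' →ₗ[B] E' := c • LinearMap.id - ht
  have hker : LinearMap.range h ≤ LinearMap.ker e := by
    rintro _ ⟨x, rfl⟩
    simp [e, ht, hht]
  let σ := LocalizedModule.map S ((LinearMap.range h).liftQ e hker)
  have : Module.Free (Localization S) (LocalizedModule S E') :=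
    Module.free_of_isLocalizedModule S (LocalizedModule.mkLinearMap S E')
  have hcomp : π ∘ₗ σ = (algebraMap B (Localization.AtPrime q) c) • LinearMap.id := by
    refine LinearMap.ext fun z => ?_
    induction z using LocalizedModule.induction_on with
    | _ m s =>
      obtain ⟨m, rfl⟩ := Submodule.Quotient.mk_surjective _ m
      simp only [π, σ, LinearMap.comp_apply, LocalizedModule.map_mk, Submodule.liftQ_apply, LinearMap.smul_apply,
        LinearMap.id_apply, algebraMap_smul, LocalizedModule.smul'_mk]
      congr 1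
      simp [e, ht, Submodule.Quotient.mk_smul]
  obtain ⟨v, hv⟩ := IsLocalization.map_units (Localization.AtPrime q) (⟨c, hc⟩ : S)
  have : Module.Projective (Localization.AtPrime q) (LocalizedModule q.primeCompl (E' ⧸ LinearMap.range h)) :=
    Module.Projective.of_split ((↑v⁻¹ : Localization.AtPrime q) • σ) π (by
      rw [LinearMap.comp_smul, hcomp, smul_smul, show algebraMap B _ c = (v : Localization.AtPrime q) from hv.symm,
        Units.inv_mul, one_smul])
  exact Module.free_of_flat_of_isLocalRing

variable [IsNoetherianRing B]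

theorem exists_presentation_free_off (F : Type u) [AddCommGroup F] [Module B F] [Module.Finite B F]
    [Module.IsReflexive B F] :
    ∃ (n m : ℕ) (g : F →ₗ[B] (Fin n → B)) (h : (Fin n → B) →ₗ[B] (Fin m → B)),
      Function.Injective g ∧ Function.Exact g h ∧
      ∀ (q : Ideal B) [q.IsPrime], Module.Free (Localization.AtPrime q) (LocalizedModule q.primeCompl F) →
        Module.Free (Localization.AtPrime q) (LocalizedModule q.primeCompl ((Fin m → B) ⧸ LinearMap.range h)) := by
  have : Module.FinitePresentation B F := Module.finitePresentation_of_finite B F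
  have : Module.Finite B (Module.Dual B F) := inferInstance
  have : Module.FinitePresentation B (Module.Dual B F) := Module.finitePresentation_of_finite B _
  obtain ⟨n, π, hπ⟩ := Module.Finite.exists_fin' B (Module.Dual B F)
  obtain ⟨m, ρ, hρ⟩ := Module.Finite.exists_fin' B (LinearMap.ker π)
  let ιρ : (Fin m → B) →ₗ[B] (Fin n → B) := (LinearMap.ker π).subtype ∘ₗ ρ
  let dn := (Pi.basisFun B (Fin n)).dualBasis.equivFun
  let dm := (Pi.basisFun B (Fin m)).dualBasis.equivFun
  let f : F →ₗ[B] Module.Dual B (Fin n → B) := π.dualMap ∘ₗ Module.Dual.eval B F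
  have hf : Function.Injective f :=
    (LinearMap.dualMap_injective_of_surjective hπ).comp (Module.bijective_dual_eval B F).1
  have hex : Function.Exact f ιρ.dualMap := by
    intro φ
    constructor
    · intro hφ
      have hker : LinearMap.ker π ≤ LinearMap.ker φ := fun x hx => by
        obtain ⟨y, hy⟩ := hρ ⟨x, hx⟩
        have := LinearMap.congr_fun hφ y
        simpa [ιρ, hy] using this
      let ψ : Module.Dual B (Module.Dual B F) :=
        (LinearMap.ker π).liftQ φ hker ∘ₗ (π.quotKerEquivOfSurjective hπ).symm.toLinearMap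
      obtain ⟨g, hg⟩ := (Module.bijective_dual_eval B F).2 ψ
      refine ⟨g, LinearMap.ext fun x => ?_⟩
      show Module.Dual.eval B F g (π x) = φ x
      rw [hg, show π x = π.quotKerEquivOfSurjective hπ (Submodule.Quotient.mk x) from rfl]
      simp [ψ]
    · rintro ⟨g, rfl⟩
      refine LinearMap.ext fun y => ?_
      show Module.Dual.eval B F g (π (ρ y : Fin n → B)) = 0
      rw [(ρ y).2, map_zero]
  refine ⟨n, m, dn.toLinearMap ∘ₗ f, dm.toLinearMap ∘ₗ ιρ.dualMap ∘ₗ dn.symm.toLinearMap,
    dn.injective.comp hf, fun φ => ?_, fun q _ hfree => ?_⟩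
  · constructor
    · intro hφ
      obtain ⟨a, ha⟩ := (hex (dn.symm φ)).1 (dm.injective (by simpa using hφ))
      exact ⟨a, by simp [ha]⟩
    · rintro ⟨a, rfl⟩
      have h0 := (hex (f a)).2 ⟨a, rfl⟩
      simp [h0]
  let S := q.primeCompl
  let gD := LocalizedModule.mkLinearMap S (Module.Dual B F)
  let gn := LocalizedModule.mkLinearMap S (Fin n → B)
  have : Module.Free (Localization S) (LocalizedModule S (Module.Dual B F)) :=
    Module.Free.of_equiv (LinearEquiv.extendScalarsOfIsLocalization S (Localization.AtPrime q)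
      (IsLocalizedModule.linearEquiv S
        (IsLocalizedModule.mapExtendScalars S (LocalizedModule.mkLinearMap S F)
          (Algebra.linearMap B (Localization.AtPrime q)) (Localization.AtPrime q)) gD))
  obtain ⟨s', hs'⟩ := Module.projective_lifting_property (LocalizedModule.map S π) LinearMap.id
    (LocalizedModule.map_surjective S π hπ)
  obtain ⟨σ, t, hσ⟩ := Module.FinitePresentation.exists_lift_of_isLocalizedModule S gn
    (s'.restrictScalars B ∘ₗ gD)
  have hcmp : gD ∘ₗ (π ∘ₗ σ) = gD ∘ₗ ((t : B) • LinearMap.id) := LinearMap.ext fun x => by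
      show gD (π (σ x)) = gD ((t : B) • x)
      have h2 : IsLocalizedModule.map S gn gD π (gn (σ x)) = gD (π (σ x)) := IsLocalizedModule.map_apply ..
      have h3 := LinearMap.congr_fun hs' (gD x)
      rw [← h2, show gn (σ x) = (t : B) • s' (gD x) from LinearMap.congr_fun hσ x, map_smul, map_smul]
      exact congrArg ((t : B) • ·) h3
  obtain ⟨w, hw⟩ : ∃ w : S, ∀ x, (w : B) • π (σ x) = (w : B) • ((t : B) • x) := by
    classical
    obtain ⟨T, hT⟩ := (inferInstance : Module.Finite B (Module.Dual B F)).fg_top
    have hex' : ∀ x, ∃ u : S, u • (π (σ x) - (t : B) • x) = 0 := fun x =>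
      (IsLocalizedModule.eq_zero_iff S gD).1 (by
        rw [map_sub, sub_eq_zero]; exact LinearMap.congr_fun hcmp x)
    choose u hu using hex'
    let w : S := ∏ x ∈ T, u x
    refine ⟨w, fun x => ?_⟩
    have := LinearMap.ext_on hT (f := (w : B) • (π ∘ₗ σ)) (g := (w : B) • ((t : B) • LinearMap.id)) fun x hx => by
      obtain ⟨d, hd⟩ := Finset.dvd_prod_of_mem u (Finset.mem_coe.1 hx)
      have h := hu x
      rw [Submonoid.smul_def, smul_sub, sub_eq_zero] at h
      simp only [LinearMap.smul_apply, LinearMap.comp_apply, LinearMap.id_apply, w, hd, Submonoid.coe_mul]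
      rw [mul_comm, mul_smul, h, ← mul_smul]
    exact LinearMap.congr_fun this x
  let c : B := (w : B) * t
  have hπσ : ∀ x, π (((w : B) • σ) x) = c • x := fun x => by
    rw [LinearMap.smul_apply, map_smul, hw x, mul_smul]
  let r : (Fin n → B) →ₗ[B] LinearMap.ker π :=
    (c • LinearMap.id - ((w : B) • σ) ∘ₗ π).codRestrict _ fun x => by
      rw [LinearMap.mem_ker, LinearMap.sub_apply, LinearMap.smul_apply, LinearMap.id_apply, LinearMap.comp_apply,
        map_sub, hπσ, map_smul, sub_self]
  obtain ⟨t', ht'⟩ := Module.projective_lifting_property ρ r hρ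
  have hreg : ∀ y, ιρ (t' (ιρ y)) = c • ιρ y := fun y => by
    show ((ρ (t' (ιρ y)) : LinearMap.ker π) : Fin n → B) = _
    rw [show ρ (t' (ιρ y)) = r (ιρ y) from LinearMap.congr_fun ht' _]
    simp [r, ιρ, show π (ρ y : Fin n → B) = 0 from (ρ y).2]
  refine free_coker q _ (dn.toLinearMap ∘ₗ t'.dualMap ∘ₗ dm.symm.toLinearMap) c (q.primeCompl.mul_mem w.2 t.2) fun x => ?_
  simp only [LinearMap.comp_apply, LinearEquiv.coe_coe, LinearEquiv.symm_apply_apply, ← map_smul]
  refine congrArg dm (LinearMap.ext fun y => ?_)
  simp only [LinearMap.dualMap_apply, map_smul, LinearMap.smul_apply, hreg]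

end DepthTwoLib
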